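import Cfsg.Agent.Lib.GW.Basic

/-!
# The `A₇` configuration

A group with dihedral Sylow `2`-subgroups of order `8` and one class of involutions in which
`O(C(z)) = D` is abelian, centralised by one reflection and inverted by the other, and
`C(d) = C(D)`, of order `12|D|`, for every `d ∈ D` other than `1`.
-/

set_option autoImplicit false

namespace CfsgLib.GW

open Subgroup DihedralGroup
open CfsgLib.TwoGroups CfsgLib.TwoGroups.Dihedral
open CfsgLib.Signalizer (involution_sq involution_inv involution_ne_one orderOf_eq_two_of orderOf_conj)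

universe u

/-- The configuration left at the end of the classification for `n = 3`. -/
structure A7Data (G : Type u) [Group G] where
  S : Sylow 2 G
  f : DihedralGroup (2 ^ 2) →* G
  inj : Function.Injective f
  range : f.range = (S : Subgroup G)
  one_class : ∀ a b : G, orderOf a = 2 → orderOf b = 2 → IsConj a b
  D : Subgroup G
  odd_D : Odd (Nat.card D)
  D_ne : D ≠ ⊥
  D_le : D ≤ centralizer ({f (r 2)} : Set G)
  card_C : Nat.card (centralizer ({f (r 2)} : Set G)) = 8 * Nat.card D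
  fix : ∀ d ∈ D, f (sr 0) * d * (f (sr 0))⁻¹ = d
  inv : ∀ d ∈ D, f (sr 1) * d * (f (sr 1))⁻¹ = d⁻¹
  g : G
  g_fix : ∀ d ∈ D, Commute g d
  rot : Rot (f (r 2)) (f (sr 0)) g
  card_X : Nat.card (centralizer (D : Set G)) = 12 * Nat.card D
  cent : ∀ d ∈ D, d ≠ 1 → centralizer ({d} : Set G) ≤ centralizer (D : Set G)

variable {G : Type u} [Group G]

namespace A7Data

variable (e : A7Data G)

/-- The central involution. -/
def z : G := e.f (r 2)

/-- The reflection centralising `D`. -/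
def τ : G := e.f (sr 0)

/-- The reflection inverting `D`. -/
def i : G := e.f (sr 1)

/-- The centraliser of `D`. -/
def X : Subgroup G := centralizer (e.D : Set G)

/-- The normaliser of `D`. -/
def M : Subgroup G := normalizer (e.D : Set G)

theorem hz : orderOf e.z = 2 := e.rot.ht

theorem hτ : orderOf e.τ = 2 := e.rot.hu

theorem hi : orderOf e.i = 2 := by rw [i, orderOf_injective e.f e.inj, orderOf_sr]

theorem z_ne_τ : e.z ≠ e.τ := e.rot.ne

theorem comm_z_τ : Commute e.z e.τ := e.rot.comm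

theorem comm_z_i : Commute e.z e.i := by
  show e.f (r 2) * e.f (sr 1) = e.f (sr 1) * e.f (r 2)
  rw [← map_mul, ← map_mul]
  exact congrArg _ (by decide)

theorem i_conj_τ : e.i * e.τ * e.i⁻¹ = e.z * e.τ := by
  show e.f (sr 1) * e.f (sr 0) * (e.f (sr 1))⁻¹ = e.f (r 2) * e.f (sr 0)
  rw [← map_inv, ← map_mul, ← map_mul, ← map_mul]
  exact congrArg _ (by decide)

theorem i_inv : e.i⁻¹ = e.i := involution_inv e.hi

theorem τ_inv : e.τ⁻¹ = e.τ := involution_inv e.hτ

theorem z_inv : e.z⁻¹ = e.z := involution_inv e.hz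

theorem zτ_ne : e.z * e.τ ≠ e.τ := fun h => involution_ne_one e.hz (mul_eq_right.1 h)

theorem zτ_ne' : e.z * e.τ ≠ e.z := fun h => involution_ne_one e.hτ (mul_eq_left.1 h)

theorem comm_D_z {d : G} (hd : d ∈ e.D) : Commute d e.z :=
  mem_centralizer_singleton_iff.1 (e.D_le hd)

theorem comm_D_τ {d : G} (hd : d ∈ e.D) : Commute e.τ d :=
  mul_inv_eq_iff_eq_mul.1 (e.fix d hd)

theorem mem_X_iff {x : G} : x ∈ e.X ↔ ∀ d ∈ e.D, Commute d x := mem_centralizer_iff

theorem z_mem_X : e.z ∈ e.X := e.mem_X_iff.2 fun _ hd => e.comm_D_z hd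

theorem τ_mem_X : e.τ ∈ e.X := e.mem_X_iff.2 fun _ hd => (e.comm_D_τ hd).symm

theorem g_mem_X : e.g ∈ e.X := e.mem_X_iff.2 fun d hd => (e.g_fix d hd).symm

theorem D_le_X : e.D ≤ e.X := fun x hx => e.mem_X_iff.2 fun d hd => by
  have h := e.inv (d * x) (mul_mem hd hx)
  rw [show e.f (sr 1) * (d * x) * (e.f (sr 1))⁻¹ = e.f (sr 1) * d * (e.f (sr 1))⁻¹ *
      (e.f (sr 1) * x * (e.f (sr 1))⁻¹) by group, e.inv d hd, e.inv x hx, mul_inv_rev] at h
  have h2 : d⁻¹ * x⁻¹ = x⁻¹ * d⁻¹ := h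
  show d * x = x * d
  have h3 := congrArg (fun a => a⁻¹) h2
  simpa using h3.symm

theorem comm_D {a b : G} (ha : a ∈ e.D) (hb : b ∈ e.D) : Commute a b :=
  e.mem_X_iff.1 (e.D_le_X hb) a ha

theorem mem_normalizer_of {x : G} (h : ∀ d ∈ e.D, x * d * x⁻¹ = d) : x ∈ e.M := by
  refine mem_normalizer_iff.2 fun d => ⟨fun hd => by rw [h d hd]; exact hd, fun hd => ?_⟩
  have h' : x * d * x⁻¹ = d := mul_left_cancel (a := x) (mul_right_cancel (b := x⁻¹) (h _ hd))
  rwa [h'] at hd

theorem X_le_M : e.X ≤ e.M := fun x hx => e.mem_normalizer_of fun d hd => by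
  rw [← (e.mem_X_iff.1 hx d hd).eq, mul_inv_cancel_right]

theorem i_mem_M : e.i ∈ e.M := by
  refine mem_normalizer_iff.2 fun d => ⟨fun hd => ?_, fun hd => ?_⟩
  · rw [i, e.inv d hd]; exact inv_mem hd
  · have := e.inv _ hd
    rw [← i, e.i_inv] at this
    have h2 : d = (e.i * d * e.i)⁻¹ := by
      rw [← this, show e.i * (e.i * d * e.i) * e.i = e.i * e.i * d * (e.i * e.i) by group,
        involution_sq e.hi, one_mul, mul_one]
    rw [h2]
    exact inv_mem (by rwa [e.i_inv] at hd)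

theorem z_mem_M : e.z ∈ e.M := e.X_le_M e.z_mem_X

theorem exists_ne_one : ∃ d ∈ e.D, d ≠ 1 :=
  e.D.bot_or_exists_ne_one.resolve_left e.D_ne

/-- The four-group `⟨z, τ⟩`. -/
def T : Subgroup G := four e.z e.τ

theorem z_mem_T : e.z ∈ e.T := subset_closure (by simp)

theorem τ_mem_T : e.τ ∈ e.T := subset_closure (by simp)

theorem mem_T {x : G} : x ∈ e.T ↔ x = 1 ∨ x = e.z ∨ x = e.τ ∨ x = e.z * e.τ := by
  refine ⟨mem_four_cases e.hz e.hτ e.comm_z_τ, ?_⟩
  rintro (rfl | rfl | rfl | rfl)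
  exacts [one_mem _, e.z_mem_T, e.τ_mem_T, mul_mem e.z_mem_T e.τ_mem_T]

theorem card_T : Nat.card e.T = 4 := by
  classical
  have hset : (e.T : Set G) = (({1, e.z, e.τ, e.z * e.τ} : Finset G) : Set G) := by
    ext x; simp [e.mem_T]
  have n1 := involution_ne_one e.hz
  have n2 := involution_ne_one e.hτ
  have n3 : e.z * e.τ ≠ 1 := fun h => e.z_ne_τ (by rw [eq_inv_of_mul_eq_one_left h, e.τ_inv])
  show Nat.card (e.T : Set G) = 4
  rw [hset, Nat.card_coe_set_eq, Set.ncard_coe_finset, Finset.card_insert_of_notMem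
    (by simp [Ne.symm n1, Ne.symm n2, Ne.symm n3]), Finset.card_insert_of_notMem
    (by simp [e.z_ne_τ, Ne.symm e.zτ_ne']), Finset.card_pair (Ne.symm e.zτ_ne)]

variable [Finite G]

theorem odd_of_mem_D {d : G} (hd : d ∈ e.D) : Odd (orderOf d) :=
  e.odd_D.of_dvd_nat (orderOf_dvd_natCard e.D hd)

omit [Finite G] in
theorem eq_one_of_odd_of_sq {x : G} (ho : Odd (orderOf x)) (h : x * x = 1) : x = 1 :=
  orderOf_eq_one_iff.1 (Nat.eq_one_of_dvd_coprimes (Nat.coprime_two_right.2 ho) dvd_rfl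
    (orderOf_dvd_of_pow_eq_one (by rw [pow_two, h])))

theorem i_not_mem_X : e.i ∉ e.X := fun h => by
  obtain ⟨d, hd, hd1⟩ := e.exists_ne_one
  have h1 := e.inv d hd
  rw [← i, ← (e.mem_X_iff.1 h d hd).eq, mul_inv_cancel_right] at h1
  exact hd1 (eq_one_of_odd_of_sq (e.odd_of_mem_D hd) (by
    nth_rw 1 [h1]; rw [inv_mul_cancel]))

/-- A subgroup containing `D`, `z` and `τ` has order divisible by `4|D|`. -/
theorem four_dvd {H : Subgroup G} (hD : e.D ≤ H) (hz : e.z ∈ H) (hτ : e.τ ∈ H) :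
    4 * Nat.card e.D ∣ Nat.card H := by
  refine Nat.Coprime.mul_dvd_of_dvd_of_dvd ((Nat.coprime_two_left.2 e.odd_D).pow_left 2) ?_
    (card_dvd_of_le hD)
  rw [← e.card_T]
  exact card_dvd_of_le (four_le hz hτ)

end A7Data

end CfsgLib.GW
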