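import Cfsg.Agent.Lib.GW.A7.Intersections

/-!
# Fixed points of involutions on the cosets of `N(D)`

For `|D| = o > 3` at most two outer involutions of `N(D)` fix a point outside the base point, and
two only if an inner one fixes it too; so `|G : C(z)| ≥ 36 o² - 18 o + 3`.
-/

set_option autoImplicit false

namespace CfsgLib.GW.A7Data

open Subgroup DihedralGroup MulAction
open CfsgLib.Signalizer (involution_sq involution_inv involution_ne_one orderOf_eq_two_of orderOf_conj)

universe u

variable {G : Type u} [Group G] (e : A7Data G)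

open scoped _root_.Classical in
/-- The involutions of `N(D)` outside `X`. -/
noncomputable def outer [Fintype G] : Finset G :=
  Finset.univ.filter fun x => x ∈ e.M ∧ x ∉ e.X ∧ x * x = 1

open scoped _root_.Classical in
/-- The inner involutions. -/
noncomputable def inner : Finset G := {e.z, e.τ, e.z * e.τ}

theorem mem_outer [Fintype G] {x : G} : x ∈ e.outer ↔ x ∈ e.M ∧ x ∉ e.X ∧ x * x = 1 := by
  classical
  simp [outer]

theorem mem_inner {x : G} : x ∈ e.inner ↔ x = e.z ∨ x = e.τ ∨ x = e.z * e.τ := by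
  classical
  simp [inner]

theorem card_inner : e.inner.card = 3 := by
  classical
  rw [inner, Finset.card_insert_of_notMem (by simp [e.z_ne_τ, Ne.symm e.zτ_ne']),
    Finset.card_pair (Ne.symm e.zτ_ne)]

theorem inner_props {v : G} (hv : v ∈ e.inner) : v ∈ e.X ∧ v ∈ e.M ∧ orderOf v = 2 := by
  rcases e.mem_inner.1 hv with rfl | rfl | rfl
  · exact ⟨e.z_mem_X, e.X_le_M e.z_mem_X, e.hz⟩
  · exact ⟨e.τ_mem_X, e.X_le_M e.τ_mem_X, e.hτ⟩
  · exact ⟨mul_mem e.z_mem_X e.τ_mem_X, e.X_le_M (mul_mem e.z_mem_X e.τ_mem_X), e.rot.prod_order⟩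

theorem outer_order [Fintype G] {j : G} (hj : j ∈ e.outer) : orderOf j = 2 :=
  orderOf_eq_two_of (fun h => (e.mem_outer.1 hj).2.1 (h ▸ one_mem _)) (e.mem_outer.1 hj).2.2

variable [Fintype G]

/-- An outer involution does not centralise both `z` and `τ`. -/
theorem outer_not_commute {j : G} (hj : j ∈ e.outer) (hz : Commute j e.z) : ¬ Commute j e.τ := by
  intro hτ
  obtain ⟨hjM, hjX, -⟩ := e.mem_outer.1 hj
  have h := (e.mem_X_or hjM).resolve_left hjX
  have h1 : Commute (e.i * j) e.z := e.comm_z_i.symm.mul_left hz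
  have h2 := e.commute_T h h1 e.τ_mem_T
  have h3 : Commute e.i e.τ := by
    have := h2.mul_left hτ
    rwa [mul_assoc, (e.mem_outer.1 hj).2.2, mul_one] at this
  have h4 := e.i_conj_τ
  rw [conj_eq h3] at h4
  exact e.zτ_ne h4.symm

open scoped _root_.Classical in
/-- `|{q : j q = q}| |N(D)| = |C(z)| |I|`, with `I` the involutions of `N(D)`. -/
theorem fixed_card {j : G} (hj : orderOf j = 2) [Fintype (G ⧸ e.M)] :
    (Finset.univ.filter fun q : G ⧸ e.M => j • q = q).card * (3 * Nat.card e.D) =
      Nat.card e.D * (e.outer.card + 3) := by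
  classical
  set A := Finset.univ.filter fun x : G => x⁻¹ * j * x ∈ e.M with hA
  -- count `A` by cosets
  have hset : (QuotientGroup.mk ⁻¹' ((Finset.univ.filter fun q : G ⧸ e.M => j • q = q : Finset _) :
      Set (G ⧸ e.M)) : Set G) = (A : Set G) := by
    ext x
    simp only [Set.mem_preimage, Finset.coe_filter, Finset.mem_univ, true_and, Set.mem_setOf_eq, hA]
    rw [Quotient.smul_mk, QuotientGroup.eq, smul_eq_mul, mul_inv_rev, involution_inv hj]
  have h1 : A.card = 24 * Nat.card e.D * (Finset.univ.filter fun q : G ⧸ e.M => j • q = q).card := by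
    rw [← Set.ncard_coe_finset A, ← hset, ← Nat.card_coe_set_eq,
      Nat.card_congr (QuotientGroup.preimageMkEquivSubgroupProdSet _ _), Nat.card_prod, e.card_M,
      Nat.card_coe_set_eq, Set.ncard_coe_finset]
  -- count `A` by the conjugates
  set I := e.outer ∪ e.inner with hI
  have hmaps : ∀ x ∈ A, x⁻¹ * j * x ∈ I := by
    intro x hx
    have hxM : x⁻¹ * j * x ∈ e.M := (Finset.mem_filter.1 hx).2
    have ho : orderOf (x⁻¹ * j * x) = 2 := by
      have := orderOf_conj x⁻¹ j
      rwa [inv_inv, hj] at this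
    by_cases hX : x⁻¹ * j * x ∈ e.X
    · exact Finset.mem_union_right _ (e.mem_inner.2 (e.involution_X hX ho))
    · exact Finset.mem_union_left _ (e.mem_outer.2 ⟨hxM, hX, involution_sq ho⟩)
  have hfib : ∀ a ∈ I, (A.filter fun x => x⁻¹ * j * x = a).card = 8 * Nat.card e.D := by
    intro a ha
    have ha2 : orderOf a = 2 ∧ a ∈ e.M := by
      rcases Finset.mem_union.1 ha with h | h
      · exact ⟨e.outer_order h, (e.mem_outer.1 h).1⟩
      · exact ⟨(e.inner_props h).2.2, (e.inner_props h).2.1⟩
    obtain ⟨c, hc⟩ := isConj_iff.1 (e.one_class a j ha2.1 hj)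
    obtain ⟨k, hk⟩ := isConj_iff.1 (e.one_class e.z j e.hz hj)
    rw [← e.card_C', ← Fintype.card_coe, ← Nat.card_eq_fintype_card]
    refine (Nat.card_congr (Equiv.ofBijective (fun y : e.C =>
      (⟨k * y * k⁻¹ * c, ?_⟩ : ↥(A.filter fun x => x⁻¹ * j * x = a))) ⟨?_, ?_⟩)).symm
    · have hy : (y : G)⁻¹ * e.z * y = e.z := by
        rw [mul_assoc, ← (e.mem_C.1 y.2).eq, inv_mul_cancel_left]
      have h : (k * y * k⁻¹ * c)⁻¹ * j * (k * y * k⁻¹ * c) = a := by
        rw [show (k * y * k⁻¹ * c)⁻¹ * j * (k * y * k⁻¹ * c) =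
          c⁻¹ * (k * ((y : G)⁻¹ * (k⁻¹ * j * k) * y) * k⁻¹) * c by group,
          show k⁻¹ * j * k = e.z by rw [← hk]; group, hy, hk, ← hc]
        group
      refine Finset.mem_filter.2 ⟨Finset.mem_filter.2 ⟨Finset.mem_univ _, ?_⟩, h⟩
      rw [h]; exact ha2.2
    · intro y y' h
      exact Subtype.ext (mul_left_cancel (mul_right_cancel (mul_right_cancel (congrArg Subtype.val h))))
    · rintro ⟨x, hx⟩
      have hxj : x⁻¹ * j * x = a := (Finset.mem_filter.1 hx).2
      refine ⟨⟨k⁻¹ * (x * c⁻¹) * k, e.mem_C.2 (commute_of_conj_eq ?_)⟩,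
        Subtype.ext (show k * (k⁻¹ * (x * c⁻¹) * k) * k⁻¹ * c = x by group)⟩
      rw [show k⁻¹ * (x * c⁻¹) * k * e.z * (k⁻¹ * (x * c⁻¹) * k)⁻¹ =
        k⁻¹ * (x * (c⁻¹ * (k * e.z * k⁻¹) * c) * x⁻¹) * k by group, hk,
        show c⁻¹ * j * c = a by rw [← hc]; group, ← hxj]
      rw [show k⁻¹ * (x * (x⁻¹ * j * x) * x⁻¹) * k = k⁻¹ * j * k by group, ← hk]
      group
  have h2 : A.card = I.card * (8 * Nat.card e.D) := by
    rw [Finset.card_eq_sum_card_fiberwise (t := I) hmaps, Finset.sum_congr rfl hfib, Finset.sum_const,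
      smul_eq_mul]
  have hdisj : Disjoint e.outer e.inner := Finset.disjoint_left.2 fun x h h' =>
    (e.mem_outer.1 h).2.1 (e.inner_props h').1
  rw [hI, Finset.card_union_of_disjoint hdisj, e.card_inner, h1] at h2
  linarith

/-- There are at least `6|D|` outer involutions. -/
theorem card_outer : 6 * Nat.card e.D ≤ e.outer.card := by
  classical
  set a : Fin 3 → G := ![1, e.g, e.g * e.g] with ha
  have haX : ∀ k, a k ∈ e.X := fun k => by
    fin_cases k <;> [exact one_mem _; exact e.g_mem_X; exact mul_mem e.g_mem_X e.g_mem_X]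
  have hzi : e.z * e.i * (e.z * e.i) = 1 := by
    rw [← mul_assoc, mul_assoc e.z e.i e.z, ← e.comm_z_i.eq, ← mul_assoc, involution_sq e.hz,
      one_mul, involution_sq e.hi]
  set b : Bool → G := fun c => if c then e.z * e.i else e.i with hb
  have hbz : ∀ c, Commute (b c) e.z := fun c => by
    cases c
    · exact e.comm_z_i.symm
    · exact (Commute.refl _).mul_left e.comm_z_i.symm
  have hbd : ∀ c, ∀ d ∈ e.D, b c * d * (b c * d) = 1 := by
    intro c d hd
    have h1 : e.i * d * e.i = d⁻¹ := by
      have := e.inv d hd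
      rwa [← i, e.i_inv] at this
    cases c
    · show e.i * d * (e.i * d) = 1
      rw [← mul_assoc, h1, inv_mul_cancel]
    · show e.z * e.i * d * (e.z * e.i * d) = 1
      rw [show e.z * e.i * d * (e.z * e.i * d) = e.z * (e.i * (d * e.z) * e.i) * d by group,
        (e.comm_D_z hd).eq, show e.i * (e.z * d) * e.i = (e.i * e.z * e.i) * (e.i * e.i)⁻¹ *
          (e.i * d * e.i) by group, involution_sq e.hi, inv_one, mul_one, h1,
        ← e.comm_z_i.eq, mul_assoc e.z e.i e.i, involution_sq e.hi, mul_one, ← mul_assoc,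
        involution_sq e.hz, one_mul, inv_mul_cancel]
  have hbX : ∀ c, ∀ d ∈ e.D, b c * d ∉ e.X := by
    intro c d hd h
    have hbc : b c ∈ e.X := by simpa using mul_mem h (inv_mem (e.D_le_X hd))
    cases c
    · exact e.i_not_mem_X hbc
    · refine e.i_not_mem_X ?_
      have := mul_mem (inv_mem e.z_mem_X) hbc
      rwa [show e.z⁻¹ * b true = e.i from inv_mul_cancel_left _ _] at this
  have hbM : ∀ c, b c ∈ e.M := fun c => by
    cases c
    · exact e.i_mem_M
    · exact mul_mem e.z_mem_M e.i_mem_M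
  set φ : Fin 3 × e.D × Bool → G := fun p => a p.1 * (b p.2.2 * p.2.1) * (a p.1)⁻¹ with hφ
  have hout : ∀ p, φ p ∈ e.outer := by
    rintro ⟨k, ⟨d, hd⟩, c⟩
    refine e.mem_outer.2 ⟨mul_mem (mul_mem (e.X_le_M (haX k)) (mul_mem (hbM c) (e.X_le_M (e.D_le_X hd))))
      (inv_mem (e.X_le_M (haX k))), fun h => hbX c d hd ?_, ?_⟩
    · have := mul_mem (mul_mem (inv_mem (haX k)) h) (haX k)
      rwa [show (a k)⁻¹ * φ (k, ⟨d, hd⟩, c) * a k = b c * d by simp only [hφ]; group] at this
    · simp only [hφ]
      rw [show a k * (b c * d) * (a k)⁻¹ * (a k * (b c * d) * (a k)⁻¹) =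
        a k * (b c * d * (b c * d)) * (a k)⁻¹ by group, hbd c d hd]
      group
  -- each commutes with exactly one inner involution
  set w : Fin 3 → G := ![e.z, e.τ, e.z * e.τ] with hw
  have haw : ∀ k, a k * e.z * (a k)⁻¹ = w k := fun k => by
    fin_cases k
    · show (1 : G) * e.z * 1⁻¹ = e.z
      group
    · exact e.g_z
    · show e.g * e.g * e.z * (e.g * e.g)⁻¹ = e.z * e.τ
      rw [show e.g * e.g * e.z * (e.g * e.g)⁻¹ = e.g * (e.g * e.z * e.g⁻¹) * e.g⁻¹ by group, e.g_z, e.g_τ]
  have hcw : ∀ p : Fin 3 × e.D × Bool, Commute (φ p) (w p.1) := fun p => by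
    rw [← haw]
    exact commute_conj ((hbz _).mul_left (e.comm_D_z p.2.1.2)) _
  have htwo : ∀ j ∈ e.outer, ∀ k l : Fin 3, Commute j (w k) → Commute j (w l) → k = l := by
    intro j hj k l h1 h2
    have h12 : Commute j e.z → Commute j (e.z * e.τ) → Commute j e.τ := fun p q => by
      have := p.inv_right.mul_right q
      rwa [inv_mul_cancel_left] at this
    have h23 : Commute j e.τ → Commute j (e.z * e.τ) → Commute j e.z := fun p q => by
      have := q.mul_right p.inv_right
      rwa [mul_inv_cancel_right] at this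
    by_contra hne
    fin_cases k <;> fin_cases l <;> first
      | exact hne rfl
      | exact e.outer_not_commute hj h1 h2
      | exact e.outer_not_commute hj h2 h1
      | exact e.outer_not_commute hj h1 (h12 h1 h2)
      | exact e.outer_not_commute hj h2 (h12 h2 h1)
      | exact e.outer_not_commute hj (h23 h1 h2) h1
      | exact e.outer_not_commute hj (h23 h2 h1) h2
  have hinj : Function.Injective φ := by
    rintro ⟨k, ⟨d, hd⟩, c⟩ ⟨k', ⟨d', hd'⟩, c'⟩ h
    obtain rfl : k = k' := htwo _ (hout _) k k' (hcw _) (by rw [h]; exact hcw (k', ⟨d', hd'⟩, c'))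
    have h' : b c * d = b c' * d' := mul_left_cancel (mul_right_cancel h)
    have hzD : e.z ∉ e.D := fun hz => by
      have := e.odd_of_mem_D hz
      rw [e.hz] at this
      exact absurd this (by decide)
    cases c <;> cases c'
    · obtain rfl : d = d' := mul_left_cancel h'
      rfl
    · exfalso
      apply hzD
      have h2 : e.i * d = e.i * (e.z * d') := by
        rw [← mul_assoc, ← e.comm_z_i.eq]; exact h'
      rw [show e.z = d * d'⁻¹ by rw [mul_left_cancel h2, mul_inv_cancel_right]]
      exact mul_mem hd (inv_mem hd')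
    · exfalso
      apply hzD
      have h2 : e.i * (e.z * d) = e.i * d' := by
        rw [← mul_assoc, ← e.comm_z_i.eq]; exact h'
      rw [show e.z = d' * d⁻¹ by rw [← mul_left_cancel h2, mul_inv_cancel_right]]
      exact mul_mem hd' (inv_mem hd)
    · obtain rfl : d = d' := mul_left_cancel h'
      rfl
  calc 6 * Nat.card e.D = Nat.card (Fin 3 × e.D × Bool) := by
        simp [Nat.card_prod]; ring
    _ ≤ Nat.card e.outer := Nat.card_le_card_of_injective (fun p => (⟨φ p, hout p⟩ : e.outer))
        fun p q h => hinj (congrArg Subtype.val h)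
    _ = e.outer.card := by rw [Nat.card_eq_fintype_card, Fintype.card_coe]

/-- The lower bound for `|G : C(z)|`. -/
theorem index_ge (ho : 3 < Nat.card e.D) :
    36 * Nat.card e.D ^ 2 + 3 ≤ e.C.index + 18 * Nat.card e.D := by
  classical
  haveI : Fintype (G ⧸ e.M) := Fintype.ofFinite _
  set q0 : G ⧸ e.M := ((1 : G) : G ⧸ e.M) with hq0
  have hbase : ∀ j ∈ e.M, j • q0 = q0 := fun j hj => by
    rw [hq0, Quotient.smul_mk, QuotientGroup.eq, smul_eq_mul, mul_one, mul_one]
    exact inv_mem hj
  set Q := (Finset.univ : Finset (G ⧸ e.M)).erase q0 with hQ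
  set F : G → ℕ := fun j => (Q.filter fun q => j • q = q).card with hF
  have hfix : ∀ j, orderOf j = 2 → j ∈ e.M → 3 * F j = e.outer.card := by
    intro j hj hjM
    have h := e.fixed_card hj
    have h2 : (Finset.univ.filter fun q : G ⧸ e.M => j • q = q).card = F j + 1 := by
      rw [hF, hQ]
      simp only
      rw [Finset.filter_erase, Finset.card_erase_of_mem (by simp [hbase j hjM]), Nat.sub_add_cancel]
      exact Finset.card_pos.2 ⟨q0, by simp [hbase j hjM]⟩
    rw [h2] at h
    have h3 : Nat.card e.D * ((F j + 1) * 3) = Nat.card e.D * (e.outer.card + 3) := by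
      rw [← h]; ring
    have := Nat.eq_of_mul_eq_mul_left (by omega) h3
    omega
  -- at most two outer involutions fix a point, two only if an inner one does
  have hpt : ∀ q ∈ Q, (e.outer.filter fun j => j • q = q).card ≤
      1 + (e.inner.filter fun v => v • q = q).card := by
    intro q hq
    obtain ⟨p, rfl⟩ := QuotientGroup.mk_surjective q
    have hp : p ∉ e.M := fun h => (Finset.mem_erase.1 hq).1 (by
      rw [hq0, QuotientGroup.eq, mul_one]; exact inv_mem h)
    have hmem : ∀ j : G, orderOf j = 2 → j • (p : G ⧸ e.M) = p → p⁻¹ * j * p ∈ e.M := by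
      intro j hj h
      rwa [Quotient.smul_mk, QuotientGroup.eq, smul_eq_mul, mul_inv_rev, involution_inv hj] at h
    set s := e.outer.filter fun j => j • (p : G ⧸ e.M) = p with hs
    by_cases hs1 : s.card ≤ 1
    · omega
    obtain ⟨j₁, hj₁, j₂, hj₂, hne⟩ := Finset.one_lt_card.1 (not_le.1 hs1)
    -- products of two of them
    have hpair : ∀ a ∈ s, ∀ b ∈ s, a ≠ b →
        a * b ∈ e.inner.filter (fun v => v • (p : G ⧸ e.M) = p) ∧ Commute a b := by
      intro a ha b hb hab
      obtain ⟨ha1, ha2⟩ := Finset.mem_filter.1 ha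
      obtain ⟨hb1, hb2⟩ := Finset.mem_filter.1 hb
      obtain ⟨haM, haX, haa⟩ := e.mem_outer.1 ha1
      obtain ⟨hbM, hbX, hbb⟩ := e.mem_outer.1 hb1
      have hmem' : p⁻¹ * (a * b) * p ∈ e.M := by
        rw [show p⁻¹ * (a * b) * p = p⁻¹ * a * p * (p⁻¹ * b * p) by group]
        exact mul_mem (hmem a (e.outer_order ha1) ha2) (hmem b (e.outer_order hb1) hb2)
      have hsq := e.sq_of_mem_inf ho hp (mul_mem haM hbM) hmem'
      have hab1 : a * b ≠ 1 := fun h => hab (by
        rw [eq_inv_of_mul_eq_one_left h, inv_eq_of_mul_eq_one_right hbb])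
      have habX : a * b ∈ e.X := by
        have h1 := (e.mem_X_or haM).resolve_left haX
        have h2 := (e.mem_X_or hbM).resolve_left hbX
        have := mul_mem (e.M_normalizes_X e.i_mem_M h1) h2
        rwa [e.i_inv, show e.i * (e.i * a) * e.i * (e.i * b) = (e.i * e.i) * a * (e.i * e.i) * b by group,
          involution_sq e.hi, one_mul, mul_one] at this
      refine ⟨Finset.mem_filter.2 ⟨e.mem_inner.2 (e.involution_X habX (orderOf_eq_two_of hab1 hsq)), ?_⟩, ?_⟩
      · rw [mul_smul, hb2, ha2]
      · show a * b = b * a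
        rw [eq_inv_of_mul_eq_one_left hsq, mul_inv_rev, inv_eq_of_mul_eq_one_right haa,
          inv_eq_of_mul_eq_one_right hbb]
    have h12 := (hpair j₁ hj₁ j₂ hj₂ hne).1
    have hs2 : s.card ≤ 2 := by
      by_contra h3
      obtain ⟨a, ha, b, hb, c, hc, hab, hac, hbc⟩ := Finset.two_lt_card.1 (not_le.1 h3)
      obtain ⟨hv, hcv⟩ := hpair a ha b hb hab
      obtain ⟨hv', hcv'⟩ := hpair a ha c hc hac
      have hne' : a * b ≠ a * c := fun h => hbc (mul_left_cancel h)
      have c1 : Commute a (a * b) := (Commute.refl a).mul_right hcv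
      have c2 : Commute a (a * c) := (Commute.refl a).mul_right hcv'
      have ha1 := (Finset.mem_filter.1 ha).1
      rcases e.mem_inner.1 (Finset.mem_filter.1 hv).1 with w | w | w <;>
        rcases e.mem_inner.1 (Finset.mem_filter.1 hv').1 with w' | w' | w' <;>
        rw [w] at c1 hne' <;> rw [w'] at c2 hne' <;>
        first
          | exact hne' rfl
          | exact e.outer_not_commute ha1 c1 c2
          | exact e.outer_not_commute ha1 c2 c1
          | exact e.outer_not_commute ha1 c1 (by simpa using c1.inv_right.mul_right c2)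
          | exact e.outer_not_commute ha1 c2 (by simpa using c2.inv_right.mul_right c1)
          | exact e.outer_not_commute ha1 (by simpa using c1.mul_right c2.inv_right) c2
          | exact e.outer_not_commute ha1 (by simpa using c2.mul_right c1.inv_right) c1
    have : 0 < (e.inner.filter fun v => v • (p : G ⧸ e.M) = p).card := Finset.card_pos.2 ⟨_, h12⟩
    omega
  -- double counting
  have hsum : ∑ j ∈ e.outer, F j ≤ Q.card + ∑ v ∈ e.inner, F v := by
    have hswap : ∀ s : Finset G, ∑ j ∈ s, F j = ∑ q ∈ Q, (s.filter fun j => j • q = q).card := fun s => by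
      simp only [hF, Finset.card_filter]
      exact Finset.sum_comm
    rw [hswap, hswap]
    exact (Finset.sum_le_sum hpt).trans_eq (by rw [Finset.sum_add_distrib]; simp)
  obtain ⟨k, hk⟩ : ∃ k, e.outer.card = 3 * k := ⟨F e.z, (hfix e.z e.hz e.z_mem_M).symm⟩
  have hF' : ∀ j ∈ e.outer, F j = k := fun j hj => by
    have := hfix j (e.outer_order hj) (e.mem_outer.1 hj).1
    omega
  have hFv : ∀ v ∈ e.inner, F v = k := fun v hv => by
    have := hfix v (e.inner_props hv).2.2 (e.inner_props hv).2.1
    omega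
  rw [Finset.sum_congr rfl hF', Finset.sum_congr rfl hFv, Finset.sum_const, Finset.sum_const,
    e.card_inner, smul_eq_mul, smul_eq_mul, hk] at hsum
  have hQc : Q.card + 1 = e.M.index := by
    rw [hQ, Finset.card_erase_add_one (Finset.mem_univ _), Finset.card_univ, Subgroup.index,
      Nat.card_eq_fintype_card]
  have hC : e.C.index = 3 * e.M.index := by
    have h1 := e.C.index_mul_card
    have h2 := e.M.index_mul_card
    rw [e.card_C'] at h1
    rw [e.card_M, ← h1] at h2
    have h3 : Nat.card e.D * (8 * (3 * e.M.index)) = Nat.card e.D * (8 * e.C.index) := by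
      linarith
    have := Nat.eq_of_mul_eq_mul_left (by omega) h3
    omega
  have hlow := e.card_outer
  rw [hk] at hlow
  nlinarith

end CfsgLib.GW.A7Data
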