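import Cfsg.Agent.Lib.GW.A7.Structure
import Cfsg.Agent.Lib.GW.BlockBounds

/-!
# The order formula in the `A₇` configuration

`|G : C(z)| (b - 1)² = 8 (|D| + 1)² b (b + 1)` for some integer `b ≡ 1 (mod 4)` other than `1`.
-/

set_option autoImplicit false

namespace CfsgLib.GW.A7Data

open Subgroup DihedralGroup Cfsg
open CfsgLib.TwoGroups.Dihedral (sylowEquiv)
open CfsgLib.Signalizer (involution_sq involution_inv involution_ne_one orderOf_eq_two_of orderOf_conj)

universe u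

variable {G : Type u} [Group G] [Finite G] (e : A7Data G)

/-- The reflection `σ τ`. -/
def w : G := e.f (r 1) * e.f (sr 0)

omit [Finite G] in
theorem w_eq : e.w = e.f (sr 3) := by
  rw [w, ← map_mul]
  exact congrArg _ (by decide)

omit [Finite G] in
theorem w_order : orderOf e.w = 2 := by rw [w_eq, orderOf_injective e.f e.inj, orderOf_sr]

omit [Finite G] in
theorem w_inv {d : G} (hd : d ∈ e.D) : e.w * d * e.w⁻¹ = d⁻¹ := by
  have hσ : e.f (r 1) = e.τ * e.i := by
    show e.f (r 1) = e.f (sr 0) * e.f (sr 1)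
    rw [← map_mul]
    exact congrArg _ (by decide)
  have hfix : e.τ * d⁻¹ * e.τ⁻¹ = d⁻¹ := e.fix _ (inv_mem hd)
  rw [w, hσ, show e.τ * e.i * e.f (sr 0) * d * (e.τ * e.i * e.f (sr 0))⁻¹ =
    e.τ * (e.f (sr 1) * (e.f (sr 0) * d * (e.f (sr 0))⁻¹) * (e.f (sr 1))⁻¹) * e.τ⁻¹ by
      simp only [i, mul_inv_rev, mul_assoc],
    e.fix d hd, e.inv d hd, hfix]

theorem card_zτ : Nat.card (centralizer ({e.z, e.τ} : Set G)) = 4 * Nat.card e.D := by
  set H := centralizer ({e.z, e.τ} : Set G) with hH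
  have hmem : ∀ x, x ∈ H ↔ Commute x e.z ∧ Commute x e.τ := fun x => by
    rw [hH, mem_centralizer_iff]
    exact ⟨fun h => ⟨(h _ (by simp)).symm, (h _ (by simp)).symm⟩, fun h y hy => by
      rcases hy with rfl | rfl
      exacts [h.1.eq.symm, h.2.eq.symm]⟩
  have hle : H ≤ e.C := fun x hx => e.mem_C.2 ((hmem x).1 hx).1
  have hD := Nat.card_pos (α := e.D)
  obtain ⟨k, hk⟩ := e.four_dvd (H := H) (fun d hd => (hmem d).2 ⟨e.comm_D_z hd, (e.comm_D_τ hd).symm⟩)
    ((hmem _).2 ⟨Commute.refl _, e.comm_z_τ⟩) ((hmem _).2 ⟨e.comm_z_τ.symm, Commute.refl _⟩)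
  have h := card_dvd_of_le hle
  rw [hk, e.card_C', show 8 * Nat.card e.D = 4 * Nat.card e.D * 2 by ring] at h
  rcases (Nat.dvd_prime Nat.prime_two).1 (Nat.dvd_of_mul_dvd_mul_left (by positivity) h) with rfl | rfl
  · rw [hk, mul_one]
  · exfalso
    have heq := eq_of_le_of_card_ge hle (by rw [hk, e.card_C']; omega)
    have hi : e.i ∈ H := heq ▸ e.i_mem_C
    have h4 := e.i_conj_τ
    rw [((hmem _).1 hi).2.eq, mul_inv_cancel_right] at h4
    exact e.zτ_ne h4.symm

theorem card_zw : Nat.card (centralizer ({e.z, e.w} : Set G)) = 4 := by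
  have : Fact (Nat.Prime 2) := ⟨Nat.prime_two⟩
  set H := centralizer ({e.z, e.w} : Set G) with hH
  have hmem : ∀ x, x ∈ H ↔ Commute x e.z ∧ Commute x e.w := fun x => by
    rw [hH, mem_centralizer_iff]
    exact ⟨fun h => ⟨(h _ (by simp)).symm, (h _ (by simp)).symm⟩, fun h y hy => by
      rcases hy with rfl | rfl
      exacts [h.1.eq.symm, h.2.eq.symm]⟩
  have hzw : Commute e.z e.w := by
    show e.f (r 2) * e.w = e.w * e.f (r 2)
    rw [e.w_eq, ← map_mul, ← map_mul]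
    exact congrArg _ (by decide)
  have hne : e.w ≠ e.z := by
    rw [e.w_eq]
    exact fun h => absurd (e.inj h) (by decide)
  have hodd : ∀ x ∈ H, Odd (orderOf x) → x = 1 := by
    intro x hx ho
    obtain ⟨h1, h2⟩ := (hmem x).1 hx
    have h3 := e.w_inv (e.mem_D_of_odd h1 ho)
    rw [← h2.eq, mul_inv_cancel_right] at h3
    exact eq_one_of_odd_of_sq ho (by nth_rw 1 [h3]; rw [inv_mul_cancel])
  have hP : IsPGroup 2 H := by
    intro x
    obtain ⟨a, m, hm, hxm⟩ := Nat.exists_eq_two_pow_mul_odd (orderOf_pos (x : G)).ne'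
    refine ⟨a, Subtype.ext ?_⟩
    rw [coe_pow, coe_one]
    refine hodd _ (pow_mem x.2 _) ?_
    rw [orderOf_pow_of_dvd (by positivity) (hxm ▸ dvd_mul_right _ _), hxm,
      Nat.mul_div_cancel_left _ (by positivity)]
    exact hm
  have h4 : 4 ∣ Nat.card H := by
    have hle : four e.z e.w ≤ H :=
      four_le ((hmem _).2 ⟨Commute.refl _, hzw⟩) ((hmem _).2 ⟨hzw.symm, Commute.refl _⟩)
    have hset : ((four e.z e.w : Subgroup G) : Set G) = ({1, e.z, e.w, e.z * e.w} : Set G) := by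
      ext x
      refine ⟨fun h => by simpa using mem_four_cases e.hz e.w_order hzw h, ?_⟩
      rintro (rfl | rfl | rfl | rfl)
      exacts [one_mem _, subset_closure (by simp), subset_closure (by simp),
        mul_mem (subset_closure (by simp)) (subset_closure (by simp))]
    have hc : Nat.card (four e.z e.w) = 4 := by
      classical
      show Nat.card ((four e.z e.w : Subgroup G) : Set G) = 4
      have n1 := involution_ne_one e.hz
      have n2 := involution_ne_one e.w_order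
      have n3 : e.z * e.w ≠ 1 := fun h => hne (by
        rw [eq_inv_of_mul_eq_one_right h, e.z_inv])
      have n4 : e.z * e.w ≠ e.z := fun h => n2 (mul_eq_left.1 h)
      have n5 : e.z * e.w ≠ e.w := fun h => n1 (mul_eq_right.1 h)
      rw [hset, Nat.card_coe_set_eq, Set.ncard_insert_of_notMem (by simp [Ne.symm n1, Ne.symm n2, Ne.symm n3]),
        Set.ncard_insert_of_notMem (by simp [Ne.symm hne, Ne.symm n4]), Set.ncard_pair (Ne.symm n5)]
    exact hc ▸ card_dvd_of_le hle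
  obtain ⟨k, hk⟩ := IsPGroup.iff_card.1 hP
  have hC : H ≤ e.C := fun x hx => e.mem_C.2 ((hmem x).1 hx).1
  have h8 : 2 ^ k ∣ 8 := by
    have h := card_dvd_of_le hC
    rw [hk, e.card_C'] at h
    exact Nat.Coprime.dvd_of_dvd_mul_right ((Nat.coprime_two_left.2 e.odd_D).pow_left k) h
  obtain ⟨j, hj, hje⟩ := (Nat.dvd_prime_pow (m := 3) Nat.prime_two).1 h8
  obtain rfl := Nat.pow_right_injective le_rfl hje
  rw [hk] at h4 ⊢
  have hk2 : 2 ≤ k := (Nat.pow_dvd_pow_iff_le_right (x := 2) one_lt_two).1 (by simpa using h4)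
  rcases (show k = 2 ∨ k = 3 by omega) with rfl | rfl
  · norm_num
  exfalso
  -- order eight: `z` and `w` would both be central in a Sylow subgroup
  have hS : Nat.card (e.S : Subgroup G) = 8 := by
    rw [← Nat.card_congr (sylowEquiv e.inj e.range).symm.toEquiv, DihedralGroup.nat_card]
    norm_num
  obtain ⟨Q, hQ⟩ := hP.exists_le_sylow
  obtain ⟨c, hc⟩ := MulAction.exists_smul_eq G Q e.S
  have hQc : Nat.card (Q : Subgroup G) = 8 := by
    rw [← hS, Nat.card_congr (Sylow.equiv Q e.S).toEquiv]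
  have hHQ : H = (Q : Subgroup G) := eq_of_le_of_card_ge hQ (by rw [hk, hQc]; norm_num)
  have hcen : ∀ x, x ∈ ({e.z, e.w} : Set G) → x ∈ H → c * x * c⁻¹ = e.z ∨ x = 1 := by
    intro x hx hxH
    have hin : ∀ y ∈ H, c * y * c⁻¹ ∈ e.f.range := fun y hy => by
      rw [e.range, ← hc, Sylow.coe_subgroup_smul]
      exact ⟨y, hHQ ▸ hy, rfl⟩
    obtain ⟨a, ha⟩ := hin x hxH
    have hcomm : ∀ b : DihedralGroup (2 ^ 2), a * b = b * a := by
      intro b
      refine e.inj ?_
      obtain ⟨y, hyQ, hy⟩ : ∃ y ∈ (Q : Subgroup G), c * y * c⁻¹ = e.f b := by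
        have : e.f b ∈ ((c • Q : Sylow 2 G) : Subgroup G) := by rw [hc, ← e.range]; exact ⟨b, rfl⟩
        rw [Sylow.coe_subgroup_smul] at this
        obtain ⟨y, hy, hye⟩ := this
        exact ⟨y, hy, hye⟩
      have hyH : y ∈ H := hHQ.symm ▸ hyQ
      rw [map_mul, map_mul, ha, ← hy,
        show c * x * c⁻¹ * (c * y * c⁻¹) = c * (x * y) * c⁻¹ by group,
        show c * y * c⁻¹ * (c * x * c⁻¹) = c * (y * x) * c⁻¹ by group,
        (mem_centralizer_iff.1 hyH x hx)]
    have h2 : a = 1 ∨ a = r 2 := by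
      have key : ∀ a : DihedralGroup (2 ^ 2), a * r 1 = r 1 * a → a * sr 0 = sr 0 * a →
          a = 1 ∨ a = r 2 := by decide
      exact key a (hcomm _) (hcomm _)
    rcases h2 with rfl | rfl
    · right
      rw [map_one] at ha
      exact conj_eq_one_iff.1 ha.symm
    · exact Or.inl ha.symm
  have h1 := (hcen e.z (by simp) ((hmem _).2 ⟨Commute.refl _, hzw⟩)).resolve_right (involution_ne_one e.hz)
  have h2 := (hcen e.w (by simp) ((hmem _).2 ⟨hzw.symm, Commute.refl _⟩)).resolve_right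
    (involution_ne_one e.w_order)
  exact hne (mul_left_cancel (mul_right_cancel (h2.trans h1.symm)))

theorem odd_index : Odd e.C.index := by
  have : Fact (Nat.Prime 2) := ⟨Nat.prime_two⟩
  have hS : Nat.card (e.S : Subgroup G) = 8 := by
    rw [← Nat.card_congr (sylowEquiv e.inj e.range).symm.toEquiv, DihedralGroup.nat_card]
    norm_num
  rw [← Nat.not_even_iff_odd]
  rintro ⟨k, hk⟩
  refine e.S.not_dvd_index (?_ : 2 ∣ (e.S : Subgroup G).index)
  have h1 := e.C.index_mul_card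
  rw [e.card_C', hk] at h1
  have h2 := (e.S : Subgroup G).index_mul_card
  rw [hS, ← h1] at h2
  exact ⟨k * Nat.card e.D, by linarith⟩

/-- The order formula. -/
theorem formula [IsSimpleGroup G] : ∃ b : ℤ, b ≠ 1 ∧ 4 ∣ b - 1 ∧
    (e.C.index : ℤ) * (b - 1) ^ 2 = 8 * ((Nat.card e.D : ℤ) + 1) ^ 2 * (b * (b + 1)) := by
  classical
  obtain ⟨M, hM⟩ := CfsgLib.ZStar.exists_isPModular Nat.prime_two
  have := Fintype.ofFinite G
  haveI : NeZero (2 ^ 2 : ℕ) := ⟨by norm_num⟩
  have hσo : orderOf (e.f (r 1)) = 2 ^ (3 - 1) := by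
    rw [orderOf_injective e.f e.inj, DihedralGroup.orderOf_r_one]
  have hmem : ∀ a, e.f a ∈ (e.S : Subgroup G) := fun a => e.range ▸ ⟨a, rfl⟩
  have hgen : closure ({e.f (r 1), e.f (sr 0)} : Set G) = (e.S : Subgroup G) := by
    refine le_antisymm ((closure_le _).2 ?_) ?_
    · rintro y (rfl | rfl) <;> exact hmem _
    · rw [← e.range]
      refine e.range_le (subset_closure (by simp [τ])) ?_
      rw [i, show (sr 1 : DihedralGroup (2 ^ 2)) = sr 0 * r 1 by decide, map_mul]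
      exact mul_mem (subset_closure (by simp)) (subset_closure (by simp))
  have hrel : e.f (sr 0) * e.f (r 1) * (e.f (sr 0))⁻¹ = (e.f (r 1))⁻¹ := by
    rw [← map_inv, ← map_inv, ← map_mul, ← map_mul]
    exact congrArg _ (by decide)
  have hτo : orderOf (e.f (sr 0)) = 2 := e.hτ
  have hpow : e.f (r 1) ^ (2 ^ (3 - 2)) = e.z := by
    rw [← map_pow]
    exact congrArg _ (by decide)
  have hconj : IsConj (e.f (r 1) ^ (2 ^ (3 - 2))) (e.f (sr 0)) ∧
      IsConj (e.f (r 1) ^ (2 ^ (3 - 2))) (e.f (r 1) * e.f (sr 0)) := by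
    rw [hpow]
    exact ⟨e.one_class _ _ e.hz e.hτ, e.one_class _ _ e.hz e.w_order⟩
  obtain ⟨-, χ₁, χ₂, χ₃, χ', δ₁, δ₂, δ₃, hδ₁, -, -, -, h1, -, -, -, -, -, -, hB, hval, -⟩ :=
    Cfsg.Agent.S4481.result (G := G) M hM 3 le_rfl e.S
      ⟨sylowEquiv e.inj e.range⟩ (e.f (r 1)) (hmem _) hσo
      (Complex.exp (2 * Real.pi * Complex.I / ((2 ^ (3 - 1) : ℕ) : ℂ)))
      (Complex.isPrimitiveRoot_exp _ (pow_ne_zero _ two_ne_zero))
  have hχB : χ₁ ∈ principalBlock M G := by rw [hB]; exact Or.inr (Or.inl rfl)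
  have hv : ∀ l : ℕ, 0 < l → l < 2 ^ (3 - 1) → (χ₁ : G → ℂ) (e.f (r 1) ^ l) = δ₁ :=
    fun l h h' => (hval l h h').1
  obtain ⟨hne, hform⟩ := Cfsg.Agent.S4482.result M hM 3 le_rfl e.S (e.f (r 1)) (e.f (sr 0))
    (hmem _) (hmem _) hσo hτo hrel hgen hconj χ₁ hχB h1 δ₁ hδ₁ hv
  rw [hpow] at hform
  have hd : (4 : ℤ) ∣ (charDegree (χ₁ : G → ℂ) : ℤ) - δ₁ := by
    refine four_dvd_of_constant (zpowers (e.f (r 1))) ?_ χ₁ fun h hh h1 => ?_
    · rw [Nat.card_zpowers, hσo]; norm_num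
    · rw [← mem_powers_iff_mem_zpowers] at hh
      obtain ⟨l, rfl⟩ := hh
      have h2 := pow_mod_orderOf (e.f (r 1)) l
      rw [hσo] at h2
      simp only at h1 ⊢
      rw [← h2] at h1 ⊢
      exact hv _ (Nat.pos_of_ne_zero fun w => h1 (by rw [w, pow_zero])) (Nat.mod_lt _ (by norm_num))
  set x := charDegree (χ₁ : G → ℂ) with hx
  refine ⟨δ₁ * x, ?_, ?_, ?_⟩
  · intro w
    rcases hδ₁ with rfl | rfl
    · exact hne (by simpa using w)
    · have : (0 : ℤ) ≤ x := Int.natCast_nonneg _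
      omega
  · rcases hδ₁ with rfl | rfl
    · simpa using hd
    · obtain ⟨q, hq⟩ := hd
      exact ⟨-q, by linarith⟩
  · have hC : Nat.card (centralizer ({e.z} : Set G)) = 8 * Nat.card e.D := e.card_C'
    have hG : (Nat.card G : ℚ) = (e.C.index : ℚ) * (8 * (Nat.card e.D : ℚ)) := by
      rw [← e.C.index_mul_card, e.card_C']
      push_cast
      ring
    have ho : (Nat.card e.D : ℚ) ≠ 0 := Nat.cast_ne_zero.2 Nat.card_pos.ne'
    rw [hC, show ({e.z, e.f (sr 0)} : Set G) = {e.z, e.τ} from rfl,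
      show ({e.z, e.f (r 1) * e.f (sr 0)} : Set G) = {e.z, e.w} from rfl, e.card_zτ, e.card_zw, hG] at hform
    push_cast at hform
    field_simp at hform
    have key : ((e.C.index : ℚ)) * (((δ₁ : ℚ) * x) - 1) ^ 2 =
        8 * ((Nat.card e.D : ℚ) + 1) ^ 2 * ((δ₁ : ℚ) * x * ((δ₁ : ℚ) * x + 1)) := by
      rcases hδ₁ with rfl | rfl <;> push_cast at hform ⊢ <;>
        nlinarith [hform]
    exact_mod_cast key

end CfsgLib.GW.A7Data
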