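import Cfsg.Agent.Lib.GW.A7.Structure

/-!
# Intersections of `N(D)` with its conjugates

For `|D| > 3` a conjugate of `D` meets `N(D)` trivially unless it is `D`, and `N(D) ∩ N(D)^p`
consists of involutions for `p` outside `N(D)`.
-/

set_option autoImplicit false

namespace CfsgLib.GW.A7Data

open Subgroup DihedralGroup
open CfsgLib.Signalizer (involution_sq involution_inv involution_ne_one orderOf_eq_two_of orderOf_conj)

universe u

variable {G : Type u} [Group G] (e : A7Data G)

theorem commute_conj {a b : G} (h : Commute a b) (p : G) :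
    Commute (p * a * p⁻¹) (p * b * p⁻¹) := by
  simpa using h.map (MulAut.conj p).toMonoidHom

theorem conj_inv_conj (h x : G) : h⁻¹ * (h * x * h⁻¹) * h = x := by group

theorem conj_conj_inv (h x : G) : h * (h⁻¹ * x * h) * h⁻¹ = x := by group

variable [Finite G]

omit [Finite G] in
theorem commute_of_cent {d x : G} (hd : d ∈ e.D) (hd1 : d ≠ 1) (hx : Commute x d) : x ∈ e.X :=
  e.cent d hd hd1 (mem_centralizer_singleton_iff.2 hx)

theorem mem_M_of_conj {h d : G} (hd : d ∈ e.D) (hd1 : d ≠ 1) (hd' : h * d * h⁻¹ ∈ e.D) :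
    h ∈ e.M := by
  have hd1' : h * d * h⁻¹ ≠ 1 := fun w => hd1 (conj_eq_one_iff.1 w)
  -- `h` conjugates `X` into `X`, hence onto it
  have hXX : e.X.map (MulAut.conj h).toMonoidHom ≤ e.X := by
    rintro _ ⟨x, hx, rfl⟩
    refine e.commute_of_cent hd' hd1' ?_
    simpa using commute_conj (e.mem_X_iff.1 hx d hd).symm h
  have heq := eq_of_le_of_card_ge hXX (le_of_eq (card_map_of_injective (MulAut.conj h).injective).symm)
  have hh : ∀ a ∈ e.D, h * a * h⁻¹ ∈ e.D := fun a ha => by
    refine e.mem_D_of_odd ?_ (by rw [orderOf_conj]; exact e.odd_of_mem_D ha)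
    obtain ⟨x, hx, hxe⟩ := (heq.symm ▸ e.z_mem_X : e.z ∈ e.X.map (MulAut.conj h).toMonoidHom)
    rw [← hxe]
    simpa using commute_conj (e.mem_X_iff.1 hx a ha) h
  refine mem_normalizer_iff.2 fun a => ⟨hh a, fun ha => ?_⟩
  have hinj : Function.Injective fun b : e.D => (⟨h * b * h⁻¹, hh b b.2⟩ : e.D) := fun b c hbc =>
    Subtype.ext (mul_left_cancel (mul_right_cancel (congrArg Subtype.val hbc)))
  obtain ⟨b, hb⟩ := (Finite.injective_iff_surjective.1 hinj) ⟨_, ha⟩
  have : (b : G) = a := mul_left_cancel (mul_right_cancel (congrArg Subtype.val hb))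
  exact this ▸ b.2

/-- An element of `N(D)` conjugate into `D` lies in `D`. -/
theorem mem_D_of_conj (ho : 3 < Nat.card e.D) {h d : G} (hd : d ∈ e.D) (hd1 : d ≠ 1)
    (hx : h * d * h⁻¹ ∈ e.M) : h * d * h⁻¹ ∈ e.D := by
  by_cases hh : h ∈ e.M
  · exact (mem_normalizer_iff.1 hh d).1 hd
  exfalso
  have hxo : Odd (orderOf (h * d * h⁻¹)) := by rw [orderOf_conj]; exact e.odd_of_mem_D hd
  have hxX := e.mem_X_of_odd hx hxo
  have hcomm : ∀ a ∈ e.D, h⁻¹ * a * h ∈ e.X := by
    intro a ha
    refine e.commute_of_cent hd hd1 ?_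
    have := commute_conj (e.mem_X_iff.1 hxX a ha) h⁻¹
    rwa [inv_inv, conj_inv_conj] at this
  have hdisj : ∀ a ∈ e.D, h⁻¹ * a * h ∈ e.D → a = 1 := by
    intro a ha hb
    by_contra ha1
    exact hh (e.mem_M_of_conj hb (fun w => ha1 (by rw [← conj_conj_inv h a, w, mul_one, mul_inv_cancel]))
      (by rwa [conj_conj_inv]))
  set ψ : e.D →* e.X :=
    { toFun := fun a => ⟨h⁻¹ * a * h, hcomm a a.2⟩
      map_one' := Subtype.ext (by simp)
      map_mul' := fun a b => Subtype.ext (by simp [mul_assoc]) } with hψ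
  set ι : e.D →* e.X := Subgroup.inclusion e.D_le_X with hι
  have hcc : ∀ a b, Commute (ι a) (ψ b) := fun a b => Subtype.ext
    (e.mem_X_iff.1 (hcomm b b.2) a a.2)
  have hinj : Function.Injective (ι.noncommCoprod ψ hcc) := by
    refine (injective_iff_map_eq_one _).2 ?_
    rintro ⟨a, b⟩ hab
    have hab' : (a : G) * (h⁻¹ * b * h) = 1 := congrArg Subtype.val hab
    have hb1 : (b : G) = 1 := hdisj b b.2 (by
      rw [eq_inv_of_mul_eq_one_right hab']; exact inv_mem a.2)
    rw [hb1, mul_one, inv_mul_cancel, mul_one] at hab'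
    exact Prod.ext (Subtype.ext hab') (Subtype.ext hb1)
  have hdvd := Subgroup.card_dvd_of_injective _ hinj
  rw [Nat.card_prod, X, e.card_X] at hdvd
  have h12 : Nat.card e.D ∣ 3 * 4 :=
    Nat.dvd_of_mul_dvd_mul_right Nat.card_pos (by simpa using hdvd)
  have h3 : Nat.card e.D ∣ 3 :=
    ((Nat.coprime_two_right.2 e.odd_D).pow_right 2).dvd_of_dvd_mul_right h12
  exact absurd (Nat.le_of_dvd (by norm_num) h3) (not_le.2 ho)

/-- Conjugates of elements of `D` in two conjugates of `N(D)` force these to be equal. -/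
theorem mem_M_of_common (ho : 3 < Nat.card e.D) {p h d : G} (hd : d ∈ e.D) (hd1 : d ≠ 1)
    (hx : h * d * h⁻¹ ∈ e.M) (hxp : p⁻¹ * (h * d * h⁻¹) * p ∈ e.M) : p ∈ e.M := by
  have h1 := e.mem_D_of_conj ho hd hd1 hx
  have e1 : p⁻¹ * h * d * (p⁻¹ * h)⁻¹ = p⁻¹ * (h * d * h⁻¹) * p := by group
  have h2 := e.mem_D_of_conj ho hd hd1 (h := p⁻¹ * h) (by rwa [e1])
  rw [e1] at h2
  have h3 := e.mem_M_of_conj (h := p⁻¹) h1 (fun w => hd1 (conj_eq_one_iff.1 w)) (by rwa [inv_inv])
  exact inv_mem_iff.1 h3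

/-- The odd elements centralising an involution are conjugate into `D`. -/
theorem exists_conj_D {v x : G} (hv : orderOf v = 2) (hx : Commute x v) (hxo : Odd (orderOf x)) :
    ∃ h, ∃ d ∈ e.D, x = h * d * h⁻¹ := by
  obtain ⟨c, hc⟩ := isConj_iff.1 (e.one_class v e.z hv e.hz)
  refine ⟨c⁻¹, c * x * c⁻¹, ?_, by group⟩
  refine e.mem_D_of_odd ?_ (by rw [orderOf_conj]; exact hxo)
  rw [← hc]
  exact commute_conj hx c

/-- `N(D)` meets its other conjugates in involutions. -/
theorem sq_of_mem_inf (ho : 3 < Nat.card e.D) {p y : G} (hp : p ∉ e.M) (hy : y ∈ e.M)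
    (hyp : p⁻¹ * y * p ∈ e.M) : y * y = 1 := by
  by_contra hy2
  -- powers of `y` conjugate into `D` are trivial
  have hA : ∀ k : ℕ, ∀ h d : G, d ∈ e.D → y ^ k = h * d * h⁻¹ → y ^ k = 1 := by
    intro k h d hd hk
    by_contra hne
    refine hp (e.mem_M_of_common ho (h := h) (d := d) hd (fun w => hne ?_) ?_ ?_)
    · rw [hk, w, mul_one, mul_inv_cancel]
    · rw [← hk]; exact pow_mem hy k
    · rw [← hk]
      have hh := pow_mem hyp k
      rwa [show p⁻¹ * y * p = p⁻¹ * y * p⁻¹⁻¹ by rw [inv_inv], conj_pow, inv_inv] at hh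
  obtain ⟨a, m, hm, hym⟩ := Nat.exists_eq_two_pow_mul_odd (orderOf_pos y).ne'
  rcases Nat.eq_zero_or_pos a with rfl | hapos
  · -- odd order
    rw [pow_zero, one_mul] at hym
    have hyo : Odd (orderOf y) := hym ▸ hm
    have hyX := e.mem_X_of_odd hy hyo
    by_cases hz : Commute y e.z
    · have := hA 1 1 y (e.mem_D_of_odd hz hyo) (by simp)
      rw [pow_one] at this
      exact hy2 (by rw [this, one_mul])
    have h3 : y ^ 3 = 1 := by
      refine hA 3 1 (y ^ 3) (e.mem_D_of_odd (e.pow_three_commute hyX) ?_) (by simp)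
      exact hyo.of_dvd_nat (orderOf_pow_dvd 3)
    have hy1 : y ≠ 1 := fun w => hy2 (by rw [w, one_mul])
    obtain ⟨j, hj2, -, -, hj⟩ := e.exists_inverting hyX hz
    -- `C(y)` has odd order
    set K : Subgroup G := centralizer ({y} : Set G) with hK
    have hKo : Odd (Nat.card K) := by
      by_contra hev
      have : Fact (Nat.Prime 2) := ⟨Nat.prime_two⟩
      obtain ⟨⟨v, hvK⟩, hv⟩ := exists_prime_orderOf_dvd_card' 2
        (Nat.not_odd_iff_even.1 hev).two_dvd
      obtain ⟨h, d, hd, hk⟩ := e.exists_conj_D (v := v) (by rwa [← Subgroup.orderOf_mk v hvK] )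
        (mem_centralizer_singleton_iff.1 hvK).symm hyo
      have := hA 1 h d hd (by rwa [pow_one])
      exact hy1 (by rwa [pow_one] at this)
    have hji := involution_inv hj2
    -- `j` inverts it
    have hinv : ∀ a ∈ K, j * a * j⁻¹ = a⁻¹ := by
      refine CfsgLib.PGroups.BSW.inverts_of_fpf K (involution_sq hj2) ?_ ?_
      · intro a ha
        refine mem_centralizer_singleton_iff.2 ?_
        have := (commute_conj (mem_centralizer_singleton_iff.1 ha) j).inv_right
        rwa [hj, inv_inv] at this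
      · intro a ha hfix
        by_contra ha1
        obtain ⟨h, d, hd, rfl⟩ := e.exists_conj_D hj2 (commute_of_conj_eq hfix).symm
          (hKo.of_dvd_nat (orderOf_dvd_natCard K ha))
        have hd1 : d ≠ 1 := fun w => ha1 (by rw [w, mul_one, mul_inv_cancel])
        have hy' : h⁻¹ * y * h ∈ e.X := e.commute_of_cent hd hd1 (by
          have := commute_conj (mem_centralizer_singleton_iff.1 ha).symm h⁻¹
          rwa [inv_inv, conj_inv_conj] at this)
        have hj' : h⁻¹ * j * h ∈ e.X := e.commute_of_cent hd hd1 (by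
          have := commute_conj (commute_of_conj_eq hfix) h⁻¹
          rwa [inv_inv, conj_inv_conj] at this)
        have hjT : h⁻¹ * j * h ∈ e.T := by
          have ho2 : orderOf (h⁻¹ * j * h) = 2 := by
            have := orderOf_conj h⁻¹ j
            rwa [inv_inv, hj2] at this
          rcases e.involution_X hj' ho2 with w | w | w <;> rw [w]
          exacts [e.z_mem_T, e.τ_mem_T, mul_mem e.z_mem_T e.τ_mem_T]
        have hmem : h⁻¹ * (y * y) * h ∈ e.T := by
          have h1 : j * y⁻¹ * j = y := by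
            conv_rhs => rw [← inv_inv y, ← hj]
            simp only [mul_inv_rev, inv_inv, hji, mul_assoc]
          have h2 := mul_mem (e.conj_mem_T hy' hjT) hjT
          rwa [show h⁻¹ * y * h * (h⁻¹ * j * h) * (h⁻¹ * y * h)⁻¹ * (h⁻¹ * j * h) =
            h⁻¹ * (y * (j * y⁻¹ * j)) * h by group, h1] at h2
        have hodd : Odd (orderOf (h⁻¹ * (y * y) * h)) := by
          have := orderOf_conj h⁻¹ (y * y)
          rw [inv_inv] at this
          rw [this, ← pow_two]
          exact hyo.of_dvd_nat (orderOf_pow_dvd 2)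
        have h1 : h⁻¹ * (y * y) * h = 1 := by
          rcases e.mem_T.1 hmem with w | w | w | w
          · exact w
          all_goals
            exfalso
            rw [w] at hodd
            first
              | rw [e.hz] at hodd
              | rw [e.hτ] at hodd
              | rw [e.rot.prod_order] at hodd
              | rw [show orderOf (e.z * e.τ) = 2 from e.rot.prod_order] at hodd
            exact absurd hodd (by decide)
        exact hy2 (by rw [← conj_conj_inv h (y * y), h1, mul_one, mul_inv_cancel])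
    have hab := fun {a b : G} (ha : a ∈ K) (hb : b ∈ K) =>
      CfsgLib.PGroups.BSW.commute_of_inverted K hinv ha hb
    obtain ⟨d, hd, hd1⟩ := e.exists_ne_one
    have hyp' : p⁻¹ * y * p ∈ e.X := e.mem_X_of_odd hyp (by
      have := orderOf_conj p⁻¹ y
      rw [inv_inv] at this
      rw [this]; exact hyo)
    have hdK : d ∈ K := mem_centralizer_singleton_iff.2 (e.mem_X_iff.1 hyX d hd)
    have hd'K : p * d * p⁻¹ ∈ K := by
      refine mem_centralizer_singleton_iff.2 ?_
      have := commute_conj (e.mem_X_iff.1 hyp' d hd) p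
      rwa [conj_conj_inv] at this
    have hd'X : p * d * p⁻¹ ∈ e.X := e.commute_of_cent hd hd1 (hab hd'K hdK)
    exact hp (e.mem_M_of_common ho hd hd1 (e.X_le_M hd'X) (by
      rw [conj_inv_conj]; exact e.X_le_M (e.D_le_X hd)))
  · -- even order
    obtain ⟨b, rfl⟩ : ∃ b, a = b + 1 := ⟨a - 1, by omega⟩
    set v : G := y ^ (2 ^ b * m) with hvdef
    have hv2 : orderOf v = 2 := by
      rw [hvdef, orderOf_pow_of_dvd (by have := hm.pos; positivity) (hym ▸ ⟨2, by ring⟩), hym,
        show 2 ^ (b + 1) * m = 2 * (2 ^ b * m) by ring, Nat.mul_div_cancel _ (by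
          have := hm.pos; positivity)]
    have hm1 : m = 1 := by
      have ho' : orderOf (y ^ 2 ^ (b + 1)) = m := by
        rw [orderOf_pow_of_dvd (by positivity) (hym ▸ dvd_mul_right _ _), hym,
          Nat.mul_div_cancel_left _ (by positivity)]
      obtain ⟨h, d, hd, hk⟩ := e.exists_conj_D (x := y ^ 2 ^ (b + 1)) hv2
        (((Commute.refl y).pow_left _).pow_right _) (by rw [ho']; exact hm)
      rw [← ho', hA _ h d hd hk, orderOf_one]
    subst hm1
    rw [mul_one] at hym hvdef
    rcases Nat.eq_zero_or_pos b with rfl | hb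
    · exact hy2 (by rw [← pow_two, show (2 : ℕ) = orderOf y by rw [hym]; norm_num, pow_orderOf_eq_one])
    obtain ⟨c, rfl⟩ : ∃ c, b = c + 1 := ⟨b - 1, by omega⟩
    have hsq : ∀ w ∈ e.M, w * w ∈ e.X := by
      intro w hw
      rcases e.mem_X_or hw with h | h
      · exact mul_mem h h
      · have := mul_mem (e.M_normalizes_X e.i_mem_M h) h
        rwa [e.i_inv, show e.i * (e.i * w) * e.i * (e.i * w) = (e.i * e.i) * w * (e.i * e.i) * w by group,
          involution_sq e.hi, one_mul, mul_one] at this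
    have hvX : v ∈ e.X := by
      rw [hvdef, pow_succ, pow_mul, pow_two]
      exact hsq _ (pow_mem hy _)
    have hvp : p⁻¹ * v * p ∈ e.X := by
      have := hsq _ (pow_mem hyp (2 ^ c))
      rwa [show p⁻¹ * y * p = p⁻¹ * y * p⁻¹⁻¹ by rw [inv_inv], conj_pow, inv_inv,
        show p⁻¹ * y ^ 2 ^ c * p * (p⁻¹ * y ^ 2 ^ c * p) = p⁻¹ * (y ^ 2 ^ c * y ^ 2 ^ c) * p by group,
        ← pow_two, ← pow_mul, ← pow_succ, ← hvdef] at this
    obtain ⟨d, hd, hd1⟩ := e.exists_ne_one
    -- `p d p⁻¹` centralises `v ∈ T`, so lies in `D`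
    have hcv : Commute (p * d * p⁻¹) v := by
      have := commute_conj (e.mem_X_iff.1 hvp d hd) p
      rwa [conj_conj_inv] at this
    obtain ⟨k, hk, hkv⟩ : ∃ k ∈ e.X, k * v * k⁻¹ = e.z := by
      rcases e.involution_X hvX hv2 with w | w | w
      · exact ⟨1, one_mem _, by rw [w, one_mul, inv_one, mul_one]⟩
      · exact ⟨e.g * e.g, mul_mem e.g_mem_X e.g_mem_X, by
          rw [w, show e.g * e.g * e.τ * (e.g * e.g)⁻¹ = e.g * (e.g * e.τ * e.g⁻¹) * e.g⁻¹ by group,
            e.g_τ, e.g_zτ]⟩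
      · exact ⟨e.g, e.g_mem_X, by rw [w, e.g_zτ]⟩
    have hd'D : p * d * p⁻¹ ∈ e.D := by
      have h1 : k * (p * d * p⁻¹) * k⁻¹ ∈ e.D := e.mem_D_of_odd (hkv ▸ commute_conj hcv k)
        (by rw [orderOf_conj, orderOf_conj]; exact e.odd_of_mem_D hd)
      exact (mem_normalizer_iff.1 (e.X_le_M hk) _).2 h1
    exact hp (e.mem_M_of_conj hd hd1 hd'D)

end CfsgLib.GW.A7Data
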