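import Cfsg.Agent.Lib.GW.A7.Count
import Cfsg.Agent.Lib.GW.A7.Formula
import Cfsg.Agent.S0983
import Cfsg.Agent.S0984

/-!
# The end of the `A₇` case
-/

set_option autoImplicit false

namespace CfsgLib.GW.A7Data

open Subgroup DihedralGroup

universe u

variable {G : Type u} [Group G] [Finite G] [IsSimpleGroup G] (e : A7Data G)

omit [Finite G] in
include e in
/-- The group is not commutative. -/
theorem not_comm : ¬ IsMulCommutative G := fun h => by
  haveI := h
  have hc : e.z = e.τ := by
    rw [← e.g_z, h.is_comm.comm e.g e.z, mul_inv_cancel_right]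
  exact e.z_ne_τ hc

include e in
/-- A simple group in the configuration has order `2520`. -/
theorem card_eq : Nat.card G = 2520 := by
  obtain ⟨b, hb1, ⟨c, hc⟩, hform⟩ := e.formula
  obtain ⟨k, hk⟩ := e.odd_index
  have hG : Nat.card G = e.C.index * (8 * Nat.card e.D) := by
    rw [← e.C.index_mul_card, e.card_C']
  set o := Nat.card e.D with ho
  set n := e.C.index with hn
  obtain rfl : b = 4 * c + 1 := by linarith
  have hc0 : c ≠ 0 := fun h => hb1 (by rw [h]; norm_num)
  have hn' : (n : ℤ) = 2 * k + 1 := by exact_mod_cast hk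
  rcases Nat.lt_or_ge 3 o with h3 | h3
  · exfalso
    haveI := Fintype.ofFinite G
    have hlow := e.index_ge h3
    rw [← ho, ← hn] at hlow
    have hK : 8 * ((4 * c + 1) * (4 * c + 2)) ≤ 15 * (4 * c) ^ 2 := by
      rcases Int.lt_or_lt_of_ne hc0 with h | h <;> nlinarith
    have hup : (n : ℤ) * (4 * c) ^ 2 ≤ 15 * ((o : ℤ) + 1) ^ 2 * (4 * c) ^ 2 := by
      have := mul_le_mul_of_nonneg_left hK (sq_nonneg ((o : ℤ) + 1))
      linarith
    have hn2 : (n : ℤ) ≤ 15 * ((o : ℤ) + 1) ^ 2 :=
      le_of_mul_le_mul_right hup (by positivity)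
    have h4 : (4 : ℤ) ≤ o := by exact_mod_cast h3
    have hlow' : 36 * (o : ℤ) ^ 2 + 3 ≤ n + 18 * o := by exact_mod_cast hlow
    nlinarith
  · have ho3 : o = 3 := by
      obtain ⟨j, hj⟩ := e.odd_D
      rw [← ho] at hj
      have h1 : o ≠ 1 := fun h => e.D_ne (Subgroup.card_eq_one.1 h)
      omega
    rw [ho3] at hform hG
    push_cast at hform
    have hf : (n : ℤ) * c ^ 2 = 16 * ((4 * c + 1) * (2 * c + 1)) := by linarith
    have hdvd : c ^ 2 ∣ 16 := by
      refine (IsCoprime.mul_right ?_ ?_).dvd_of_dvd_mul_right ⟨n, by rw [← hf]; ring⟩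
      · exact (IsCoprime.pow_left ⟨-4, 1, by ring⟩)
      · exact (IsCoprime.pow_left ⟨-2, 1, by ring⟩)
    have hle := Int.le_of_dvd (by norm_num) hdvd
    have hlo : -4 ≤ c := by nlinarith
    have hhi : c ≤ 4 := by nlinarith
    have hnval : n = 153 ∨ n = 105 := by
      interval_cases c <;> omega
    rcases hnval with h | h
    · exfalso
      rw [h] at hG
      have := Cfsg.Agent.S0983.result e.not_comm (by rw [hG]; norm_num) (by rw [hG]; norm_num)
      omega
    · rw [hG, h]

include e in
/-- A simple group in the configuration is `A₇`. -/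
theorem iso_alternating_seven : Nonempty (G ≃* alternatingGroup (Fin 7)) :=
  Cfsg.Agent.S0984.result e.card_eq

end CfsgLib.GW.A7Data
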