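import Cfsg.Agent.Lib.GW.A7.Basic

/-!
# The local structure of the `A₇` configuration

`C(z) = D⟨z, τ, i⟩`, `T = ⟨z, τ⟩` is normal in `X = C(D)`, `|N(D) : X| = 2`, every element of `X`
outside `DT` is inverted by an involution outside `X`.
-/

set_option autoImplicit false

namespace CfsgLib.GW.A7Data

open Subgroup DihedralGroup
open CfsgLib.Signalizer (involution_sq involution_inv involution_ne_one orderOf_eq_two_of orderOf_conj)

universe u

variable {G : Type u} [Group G] (e : A7Data G)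

/-- The elements centralising or inverting `D`. -/
def sgn : Subgroup G where
  carrier := {x | (∀ d ∈ e.D, x * d * x⁻¹ = d) ∨ (∀ d ∈ e.D, x * d * x⁻¹ = d⁻¹)}
  one_mem' := Or.inl fun d _ => by group
  mul_mem' := by
    intro a b ha hb
    have hab : ∀ d : G, a * b * d * (a * b)⁻¹ = a * (b * d * b⁻¹) * a⁻¹ := fun d => by group
    rcases ha with ha | ha <;> rcases hb with hb | hb
    · exact Or.inl fun d hd => by rw [hab, hb d hd, ha d hd]
    · exact Or.inr fun d hd => by rw [hab, hb d hd, ha _ (inv_mem hd)]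
    · exact Or.inr fun d hd => by rw [hab, hb d hd, ha d hd]
    · exact Or.inl fun d hd => by rw [hab, hb d hd, ha _ (inv_mem hd), inv_inv]
  inv_mem' := by
    intro a ha
    rcases ha with ha | ha
    · refine Or.inl fun d hd => ?_
      nth_rw 1 [← ha d hd]
      group
    · refine Or.inr fun d hd => ?_
      have := ha _ (inv_mem hd)
      rw [inv_inv] at this
      nth_rw 1 [← this]
      group

theorem sgn_le_M : e.sgn ≤ e.M := fun x hx => by
  refine mem_normalizer_iff.2 fun d => ⟨fun hd => ?_, fun hd => ?_⟩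
  · rcases hx with h | h <;> rw [h d hd]
    exacts [hd, inv_mem hd]
  · have hd' : x⁻¹ * (x * d * x⁻¹) * x⁻¹⁻¹ = d := by group
    rcases e.sgn.inv_mem hx with h | h <;> rw [← hd', h _ hd]
    exacts [hd, inv_mem hd]

theorem D_le_sgn : e.D ≤ e.sgn := fun x hx => Or.inl fun d hd => by
  rw [(e.comm_D hx hd).eq, mul_inv_cancel_right]

theorem z_mem_sgn : e.z ∈ e.sgn := Or.inl fun d hd => by
  rw [← (e.comm_D_z hd).eq, mul_inv_cancel_right]

theorem i_mem_sgn : e.i ∈ e.sgn := Or.inr e.inv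

theorem τ_mem_sgn : e.τ ∈ e.sgn := Or.inl e.fix

/-- The centraliser of `z`. -/
def C : Subgroup G := centralizer ({e.z} : Set G)

theorem mem_C {x : G} : x ∈ e.C ↔ Commute x e.z := mem_centralizer_singleton_iff

theorem card_C' : Nat.card e.C = 8 * Nat.card e.D := e.card_C

theorem i_mem_C : e.i ∈ e.C := e.mem_C.2 e.comm_z_i.symm

theorem τ_mem_C : e.τ ∈ e.C := e.mem_C.2 e.comm_z_τ.symm

theorem z_mem_C : e.z ∈ e.C := e.mem_C.2 (Commute.refl _)

theorem range_le {H : Subgroup G} (hτ : e.τ ∈ H) (hi : e.i ∈ H) : e.f.range ≤ H := by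
  have h1 : e.f (r 1) ∈ H := by
    rw [show (r 1 : DihedralGroup (2 ^ 2)) = sr 0 * sr 1 by decide, map_mul]
    exact mul_mem hτ hi
  have h2 : ∀ k : ZMod (2 ^ 2), e.f (r k) ∈ H := fun k => by
    rw [show (r k : DihedralGroup (2 ^ 2)) = r 1 ^ k.val by
      rw [DihedralGroup.r_one_pow, ZMod.natCast_zmod_val], map_pow]
    exact pow_mem h1 _
  rintro _ ⟨a, rfl⟩
  rcases a with k | k
  · exact h2 k
  · rw [show (sr k : DihedralGroup (2 ^ 2)) = sr 0 * r k by rw [sr_mul_r, zero_add], map_mul]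
    exact mul_mem hτ (h2 k)

theorem conj_eq {m x : G} (h : Commute m x) : m * x * m⁻¹ = x := by
  rw [h.eq, mul_inv_cancel_right]

theorem g_z : e.g * e.z * e.g⁻¹ = e.τ := e.rot.conj1

theorem g_τ : e.g * e.τ * e.g⁻¹ = e.z * e.τ := e.rot.conj2

theorem g_zτ : e.g * (e.z * e.τ) * e.g⁻¹ = e.z := by
  rw [show e.g * (e.z * e.τ) * e.g⁻¹ = e.g * e.z * e.g⁻¹ * (e.g * e.τ * e.g⁻¹) by group, e.g_z,
    e.g_τ, ← mul_assoc, e.comm_z_τ.symm.eq, mul_assoc, involution_sq e.hτ, mul_one]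

theorem g_not_mem_C : e.g ∉ e.C := fun h => by
  have := e.g_z
  rw [conj_eq (e.mem_C.1 h)] at this
  exact e.z_ne_τ this

variable [Finite G]

theorem C_le_sgn : e.C ≤ e.sgn := by
  have hS : e.f.range ≤ e.sgn ⊓ e.C :=
    e.range_le ⟨e.τ_mem_sgn, e.τ_mem_C⟩ ⟨e.i_mem_sgn, e.i_mem_C⟩
  have h8 : Nat.card e.f.range = 8 := by
    rw [← Nat.card_congr (MonoidHom.ofInjective e.inj).toEquiv, DihedralGroup.nat_card]
    norm_num
  have h : 8 * Nat.card e.D ∣ Nat.card (e.sgn ⊓ e.C : Subgroup G) := by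
    refine Nat.Coprime.mul_dvd_of_dvd_of_dvd ?_ ?_ (card_dvd_of_le (le_inf e.D_le_sgn e.D_le))
    · exact (Nat.coprime_two_left.2 e.odd_D).pow_left 3
    · rw [← h8]; exact card_dvd_of_le hS
  have heq := eq_of_le_of_card_ge (inf_le_right : e.sgn ⊓ e.C ≤ e.C)
    (e.card_C' ▸ Nat.le_of_dvd Nat.card_pos h)
  exact heq ▸ inf_le_left

theorem C_le_M : e.C ≤ e.M := e.C_le_sgn.trans e.sgn_le_M

/-- The odd elements of `C(z)` lie in `D`. -/
theorem mem_D_of_odd {x : G} (hx : Commute x e.z) (ho : Odd (orderOf x)) : x ∈ e.D := by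
  have hn : (e.D.subgroupOf e.C).Normal := Subgroup.normal_subgroupOf_iff_le_normalizer e.D_le |>.2 e.C_le_M
  have hidx : (e.D.subgroupOf e.C).index = 8 := by
    have h := (e.D.subgroupOf e.C).index_mul_card
    rw [Nat.card_congr (subgroupOfEquivOfLe (show e.D ≤ e.C from e.D_le)).toEquiv, e.card_C'] at h
    exact Nat.eq_of_mul_eq_mul_right Nat.card_pos h
  have h := Subgroup.pow_index_mem (e.D.subgroupOf e.C) ⟨x, e.mem_C.2 hx⟩
  rw [hidx, mem_subgroupOf, SubmonoidClass.coe_pow] at h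
  obtain ⟨k, hk⟩ := exists_pow_eq_self_of_coprime
    (show (8 : ℕ).Coprime (orderOf x) from (Nat.coprime_two_left.2 ho).pow_left 3)
  exact hk ▸ pow_mem h k

theorem card_XC : Nat.card (e.X ⊓ e.C : Subgroup G) = 4 * Nat.card e.D := by
  have hD := Nat.card_pos (α := e.D)
  obtain ⟨k, hk⟩ := e.four_dvd (H := e.X ⊓ e.C) (le_inf e.D_le_X e.D_le) ⟨e.z_mem_X, e.z_mem_C⟩
    ⟨e.τ_mem_X, e.τ_mem_C⟩
  have h := card_dvd_of_le (inf_le_right : e.X ⊓ e.C ≤ e.C)
  rw [hk, e.card_C', show 8 * Nat.card e.D = 4 * Nat.card e.D * 2 by ring] at h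
  rcases (Nat.dvd_prime Nat.prime_two).1 (Nat.dvd_of_mul_dvd_mul_left (by positivity) h) with rfl | rfl
  · rw [hk, mul_one]
  · have heq : e.X ⊓ e.C = e.C := eq_of_le_of_card_ge inf_le_right (by rw [hk, e.card_C']; omega)
    have hi : e.i ∈ e.X ⊓ e.C := by rw [heq]; exact e.i_mem_C
    exact absurd hi.1 e.i_not_mem_X

/-- `X ∩ C(z) = DT`. -/
theorem exists_eq_mul {x : G} (hx : x ∈ e.X) (hz : Commute x e.z) :
    ∃ d ∈ e.D, ∃ v ∈ e.T, x = d * v := by
  have hT : e.T ≤ e.X ⊓ e.C := four_le ⟨e.z_mem_X, e.z_mem_C⟩ ⟨e.τ_mem_X, e.τ_mem_C⟩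
  set φ : e.D × e.T → (e.X ⊓ e.C : Subgroup G) := fun p =>
    ⟨p.1 * p.2, mul_mem (le_inf e.D_le_X e.D_le p.1.2) (hT p.2.2)⟩ with hφ
  have hinj : Function.Injective φ := by
    rintro ⟨⟨a, ha⟩, ⟨b, hb⟩⟩ ⟨⟨c, hc⟩, ⟨d, hd⟩⟩ h
    have h1 : c⁻¹ * a = d * b⁻¹ := by
      have : a * b = c * d := congrArg Subtype.val h
      rw [eq_mul_inv_iff_mul_eq, mul_assoc, this, inv_mul_cancel_left]
    have h2 : c⁻¹ * a = 1 := by
      refine eq_one_of_odd_of_sq (e.odd_of_mem_D (mul_mem (inv_mem hc) ha)) ?_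
      rw [h1]
      rcases e.mem_T.1 (mul_mem hd (inv_mem hb)) with w | w | w | w <;> rw [w]
      · rw [one_mul]
      · exact involution_sq e.hz
      · exact involution_sq e.hτ
      · exact involution_sq e.rot.prod_order
    obtain rfl : c = a := inv_mul_eq_one.1 h2
    rw [h2, eq_comm, mul_inv_eq_one] at h1
    subst h1
    rfl
  have hbij := (Nat.bijective_iff_injective_and_card φ).2
    ⟨hinj, by rw [Nat.card_prod, e.card_T, e.card_XC, mul_comm]⟩
  obtain ⟨⟨d, v⟩, h⟩ := hbij.2 ⟨x, hx, e.mem_C.2 hz⟩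
  exact ⟨d, d.2, v, v.2, (congrArg Subtype.val h).symm⟩

theorem commute_T {x : G} (hx : x ∈ e.X) (hz : Commute x e.z) {w : G} (hw : w ∈ e.T) :
    Commute x w := by
  obtain ⟨d, hd, v, hv, rfl⟩ := e.exists_eq_mul hx hz
  have h1 : Commute d e.τ := (e.comm_D_τ hd).symm
  have h2 := e.comm_D_z hd
  have hz' := e.comm_z_τ
  refine Commute.mul_left ?_ ?_
  · rcases e.mem_T.1 hw with rfl | rfl | rfl | rfl
    exacts [Commute.one_right _, h2, h1, h2.mul_right h1]
  · rcases e.mem_T.1 hv with rfl | rfl | rfl | rfl <;> rcases e.mem_T.1 hw with rfl | rfl | rfl | rfl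
    all_goals first
      | exact Commute.one_left _
      | exact Commute.one_right _
      | exact Commute.refl _
      | exact hz'
      | exact hz'.symm
      | exact (Commute.refl _).mul_right hz'
      | exact hz'.symm.mul_right (Commute.refl _)
      | exact ((Commute.refl _).mul_right hz').symm
      | exact (hz'.symm.mul_right (Commute.refl _)).symm

theorem X_normalizes_T : e.X ≤ normalizer (e.T : Set G) := by
  have hD := Nat.card_pos (α := e.D)
  have hfin : ∀ x : G, (∀ w ∈ e.T, x * w * x⁻¹ ∈ e.T) → x ∈ normalizer (e.T : Set G) := by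
    intro x h
    refine mem_normalizer_iff.2 fun w => ⟨h w, fun hw => ?_⟩
    have hinj : Function.Injective fun a : e.T => (⟨x * a * x⁻¹, h a a.2⟩ : e.T) := fun a b hab =>
      Subtype.ext (mul_left_cancel (mul_right_cancel (congrArg Subtype.val hab)))
    obtain ⟨a, ha⟩ := (Finite.injective_iff_surjective.1 hinj) ⟨_, hw⟩
    have : (a : G) = w := mul_left_cancel (mul_right_cancel (congrArg Subtype.val ha))
    exact this ▸ a.2
  set H : Subgroup G := e.X ⊓ normalizer (e.T : Set G) with hH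
  have hsub : e.X ⊓ e.C ≤ H := fun x hx => ⟨hx.1, hfin x fun w hw => by
    rwa [conj_eq (e.commute_T hx.1 (e.mem_C.1 hx.2) hw)]⟩
  have hg : e.g ∈ H := by
    refine ⟨e.g_mem_X, hfin _ fun w hw => ?_⟩
    rcases e.mem_T.1 hw with rfl | rfl | rfl | rfl
    · rw [mul_one, mul_inv_cancel]; exact one_mem _
    · rw [e.g_z]; exact e.τ_mem_T
    · rw [e.g_τ]; exact mul_mem e.z_mem_T e.τ_mem_T
    · rw [e.g_zτ]; exact e.z_mem_T
  obtain ⟨k, hk⟩ := card_dvd_of_le hsub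
  rw [e.card_XC] at hk
  have h := card_dvd_of_le (inf_le_left : H ≤ e.X)
  rw [hk, show Nat.card e.X = 4 * Nat.card e.D * 3 by rw [X, e.card_X]; ring] at h
  rcases (Nat.dvd_prime Nat.prime_three).1 (Nat.dvd_of_mul_dvd_mul_left (by positivity) h) with rfl | rfl
  · have heq := eq_of_le_of_card_ge hsub (by rw [hk, e.card_XC, mul_one])
    exact absurd (heq.symm ▸ hg : e.g ∈ e.X ⊓ e.C).2 e.g_not_mem_C
  · have heq := eq_of_le_of_card_ge (inf_le_left : H ≤ e.X) (by rw [hk, X, e.card_X]; omega)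
    exact heq ▸ inf_le_right

theorem conj_mem_T {x w : G} (hx : x ∈ e.X) (hw : w ∈ e.T) : x * w * x⁻¹ ∈ e.T :=
  (mem_normalizer_iff.1 (e.X_normalizes_T hx) w).1 hw

theorem conj_z {x : G} (hx : x ∈ e.X) :
    x * e.z * x⁻¹ = e.z ∨ x * e.z * x⁻¹ = e.τ ∨ x * e.z * x⁻¹ = e.z * e.τ := by
  rcases e.mem_T.1 (e.conj_mem_T hx e.z_mem_T) with h | h | h | h
  · exact absurd (conj_eq_one_iff.1 h) (involution_ne_one e.hz)
  exacts [Or.inl h, Or.inr (Or.inl h), Or.inr (Or.inr h)]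

theorem commute_z_of_commute_τ {x : G} (hx : x ∈ e.X) (h : Commute x e.τ) : Commute x e.z := by
  have hy : Commute (e.g⁻¹ * x * e.g) e.z := by
    refine commute_of_conj_eq ?_
    rw [show e.g⁻¹ * x * e.g * e.z * (e.g⁻¹ * x * e.g)⁻¹ =
      e.g⁻¹ * (x * (e.g * e.z * e.g⁻¹) * x⁻¹) * e.g by group, e.g_z, conj_eq h, ← e.g_z]
    group
  have := e.commute_T (mul_mem (mul_mem (inv_mem e.g_mem_X) hx) e.g_mem_X) hy
    (mul_mem e.z_mem_T e.τ_mem_T)
  refine commute_of_conj_eq ?_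
  rw [← e.g_zτ, show x * (e.g * (e.z * e.τ) * e.g⁻¹) * x⁻¹ =
    e.g * ((e.g⁻¹ * x * e.g) * (e.z * e.τ) * (e.g⁻¹ * x * e.g)⁻¹) * e.g⁻¹ by group, conj_eq this]

theorem conj_τ_of_zτ {x : G} (hx : x ∈ e.X) (h : x * e.z * x⁻¹ = e.z * e.τ) :
    x * e.τ * x⁻¹ = e.z := by
  have hne : ¬ Commute x e.z := fun hc => e.zτ_ne' (by rw [← h, conj_eq hc])
  rcases e.mem_T.1 (e.conj_mem_T hx e.τ_mem_T) with w | w | w | w
  · exact absurd (conj_eq_one_iff.1 w) (involution_ne_one e.hτ)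
  · exact w
  · exact absurd (e.commute_z_of_commute_τ hx (commute_of_conj_eq w)) hne
  · rw [← h] at w
    have w' : e.τ = e.z := mul_left_cancel (mul_right_cancel w)
    exact absurd w'.symm e.z_ne_τ

theorem conj_τ_of_τ {x : G} (hx : x ∈ e.X) (h : x * e.z * x⁻¹ = e.τ) :
    x * e.τ * x⁻¹ = e.z * e.τ := by
  have hne : ¬ Commute x e.z := fun hc => e.z_ne_τ (by rw [← h, conj_eq hc])
  rcases e.mem_T.1 (e.conj_mem_T hx e.τ_mem_T) with w | w | w | w
  · exact absurd (conj_eq_one_iff.1 w) (involution_ne_one e.hτ)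
  · -- then `x` fixes `z τ`, so `g x g⁻¹` fixes `z`
    have h2 : x * (e.z * e.τ) * x⁻¹ = e.z * e.τ := by
      rw [show x * (e.z * e.τ) * x⁻¹ = x * e.z * x⁻¹ * (x * e.τ * x⁻¹) by group, h, w,
        e.comm_z_τ.eq]
    have hy : Commute (e.g * x * e.g⁻¹) e.z := by
      refine commute_of_conj_eq ?_
      rw [← e.g_zτ, show e.g * x * e.g⁻¹ * (e.g * (e.z * e.τ) * e.g⁻¹) * (e.g * x * e.g⁻¹)⁻¹ =
        e.g * (x * (e.z * e.τ) * x⁻¹) * e.g⁻¹ by group, h2]
    have h3 := conj_eq (e.commute_T (mul_mem (mul_mem e.g_mem_X hx) (inv_mem e.g_mem_X)) hy e.τ_mem_T)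
    refine absurd (commute_of_conj_eq ?_) hne
    have h4 : x * e.z * x⁻¹ = e.g⁻¹ * (e.g * x * e.g⁻¹ * e.τ * (e.g * x * e.g⁻¹)⁻¹) * e.g := by
      rw [← e.g_z]; group
    rw [h4, h3, ← e.g_z]
    group
  · nth_rw 2 [← h] at w
    have w' : e.τ = e.z := mul_left_cancel (mul_right_cancel w)
    exact absurd w'.symm e.z_ne_τ
  · exact w

/-- The cube of an element of `X` centralises `z`. -/
theorem pow_three_commute {x : G} (hx : x ∈ e.X) : Commute (x ^ 3) e.z := by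
  rcases e.conj_z hx with h | h | h
  · exact (commute_of_conj_eq h).pow_left 3
  · refine commute_of_conj_eq ?_
    have h2 := e.conj_τ_of_τ hx h
    rw [show x ^ 3 * e.z * (x ^ 3)⁻¹ = x * (x * (x * e.z * x⁻¹) * x⁻¹) * x⁻¹ by
      rw [pow_succ, pow_two]; group, h, h2,
      show x * (e.z * e.τ) * x⁻¹ = x * e.z * x⁻¹ * (x * e.τ * x⁻¹) by group, h, h2, ← mul_assoc,
      e.comm_z_τ.symm.eq, mul_assoc, involution_sq e.hτ, mul_one]
  · refine commute_of_conj_eq ?_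
    have h2 := e.conj_τ_of_zτ hx h
    rw [show x ^ 3 * e.z * (x ^ 3)⁻¹ = x * (x * (x * e.z * x⁻¹) * x⁻¹) * x⁻¹ by
      rw [pow_succ, pow_two]; group, h,
      show x * (e.z * e.τ) * x⁻¹ = x * e.z * x⁻¹ * (x * e.τ * x⁻¹) by group, h, h2,
      show e.z * e.τ * e.z = e.τ by
        rw [e.comm_z_τ.eq, mul_assoc, involution_sq e.hz, mul_one], h2]

theorem M_normalizes_X {m x : G} (hm : m ∈ e.M) (hx : x ∈ e.X) : m * x * m⁻¹ ∈ e.X := by
  refine e.mem_X_iff.2 fun d hd => ?_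
  have h1 : m⁻¹ * d * m ∈ e.D := by
    simpa using (mem_normalizer_iff.1 (inv_mem hm) d).1 hd
  have := (e.mem_X_iff.1 hx _ h1).map (MulAut.conj m).toMonoidHom
  simpa [mul_assoc] using this

/-- The involutions of `X` are `z`, `τ`, `z τ`. -/
theorem involution_X {x : G} (hx : x ∈ e.X) (ho : orderOf x = 2) :
    x = e.z ∨ x = e.τ ∨ x = e.z * e.τ := by
  have : Fact (Nat.Prime 2) := ⟨Nat.prime_two⟩
  have hP : IsPGroup 2 (zpowers x) := IsPGroup.of_card (n := 1) (by rw [Nat.card_zpowers, ho, pow_one])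
  have hle : zpowers x ≤ normalizer (e.T : Set G) :=
    (zpowers_le).2 (e.X_normalizes_T hx)
  have hK : IsPGroup 2 (e.T ⊔ zpowers x : Subgroup G) :=
    IsPGroup.to_sup_of_normal_left' (isPGroup_four e.hz e.hτ e.comm_z_τ) hP hle
  have hTX : e.T ≤ e.X := four_le e.z_mem_X e.τ_mem_X
  obtain ⟨k, hk⟩ := IsPGroup.iff_card.1 hK
  have h1 : 2 ^ k ∣ 4 := by
    have h := card_dvd_of_le (sup_le hTX (zpowers_le.2 hx))
    rw [hk, X, e.card_X, show 12 * Nat.card e.D = 4 * (3 * Nat.card e.D) by ring] at h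
    refine Nat.Coprime.dvd_of_dvd_mul_right ?_ h
    exact (Nat.coprime_two_left.2 ((show Odd 3 by decide).mul e.odd_D)).pow_left k
  have heq : e.T = e.T ⊔ zpowers x :=
    eq_of_le_of_card_ge le_sup_left (by rw [hk, e.card_T]; exact Nat.le_of_dvd (by norm_num) h1)
  have hxT : x ∈ e.T := heq.symm ▸ mem_sup_right (mem_zpowers x)
  rcases e.mem_T.1 hxT with h | h | h | h
  · exact absurd h (involution_ne_one ho)
  exacts [Or.inl h, Or.inr (Or.inl h), Or.inr (Or.inr h)]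

theorem mem_X_or {m : G} (hm : m ∈ e.M) : m ∈ e.X ∨ e.i * m ∈ e.X := by
  have hz2 : orderOf (m * e.z * m⁻¹) = 2 := by rw [orderOf_conj]; exact e.hz
  obtain ⟨a, ha, hc⟩ : ∃ a ∈ e.X, Commute (a * m) e.z := by
    rcases e.involution_X (e.M_normalizes_X hm e.z_mem_X) hz2 with h | h | h
    · exact ⟨1, one_mem _, by rw [one_mul]; exact commute_of_conj_eq h⟩
    · refine ⟨e.g * e.g, mul_mem e.g_mem_X e.g_mem_X, commute_of_conj_eq ?_⟩
      rw [show e.g * e.g * m * e.z * (e.g * e.g * m)⁻¹ =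
        e.g * (e.g * (m * e.z * m⁻¹) * e.g⁻¹) * e.g⁻¹ by group, h, e.g_τ, e.g_zτ]
    · refine ⟨e.g, e.g_mem_X, commute_of_conj_eq ?_⟩
      rw [show e.g * m * e.z * (e.g * m)⁻¹ = e.g * (m * e.z * m⁻¹) * e.g⁻¹ by group, h, e.g_zτ]
  rcases e.C_le_sgn (e.mem_C.2 hc) with h | h
  · left
    have h' : a * m ∈ e.X := e.mem_X_iff.2 fun d hd => (commute_of_conj_eq (h d hd)).symm
    simpa using mul_mem (inv_mem ha) h'
  · right
    have h' : e.i * (a * m) ∈ e.X := e.mem_X_iff.2 fun d hd => (commute_of_conj_eq (by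
      rw [show e.i * (a * m) * d * (e.i * (a * m))⁻¹ = e.i * (a * m * d * (a * m)⁻¹) * e.i⁻¹ by group,
        h d hd]
      exact (e.inv _ (inv_mem hd)).trans (inv_inv d))).symm
    have h2 := mul_mem (e.M_normalizes_X e.i_mem_M (inv_mem ha)) h'
    rwa [show e.i * a⁻¹ * e.i⁻¹ * (e.i * (a * m)) = e.i * m by group] at h2

theorem card_M : Nat.card e.M = 24 * Nat.card e.D := by
  have hidx : (e.X.subgroupOf e.M).index = 2 := by
    rw [index_eq_two_iff']
    refine ⟨⟨e.i, e.i_mem_M⟩, fun b => ?_⟩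
    rw [mem_subgroupOf, mem_subgroupOf, coe_mul]
    rcases e.mem_X_or b.2 with h | h
    · refine Or.inr ⟨h, fun h' => e.i_not_mem_X ?_⟩
      simpa using mul_mem h' (inv_mem h)
    · refine Or.inl ⟨h, fun h' => e.i_not_mem_X ?_⟩
      simpa using mul_mem h (inv_mem h')
  have h := (e.X.subgroupOf e.M).index_mul_card
  rw [hidx, Nat.card_congr (subgroupOfEquivOfLe e.X_le_M).toEquiv, X, e.card_X] at h
  omega

theorem mem_X_of_odd {x : G} (hx : x ∈ e.M) (ho : Odd (orderOf x)) : x ∈ e.X := by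
  have h2 : x * x ∈ e.X := by
    rcases e.mem_X_or hx with h | h
    · exact mul_mem h h
    · have := mul_mem (e.M_normalizes_X e.i_mem_M h) h
      rwa [e.i_inv, show e.i * (e.i * x) * e.i * (e.i * x) = (e.i * e.i) * x * (e.i * e.i) * x by group,
        involution_sq e.hi, one_mul, mul_one] at this
  obtain ⟨k, hk⟩ := exists_pow_eq_self_of_coprime
    (show (2 : ℕ).Coprime (orderOf x) from Nat.coprime_two_left.2 ho)
  rw [← hk]
  exact pow_mem (by rwa [pow_two]) k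

/-- Every element of `X` moving `z` is inverted by an involution of `N(D)` outside `X`. -/
theorem exists_inverting {x : G} (hx : x ∈ e.X) (hz : ¬ Commute x e.z) :
    ∃ j, orderOf j = 2 ∧ j ∈ e.M ∧ j ∉ e.X ∧ j * x * j⁻¹ = x⁻¹ := by
  suffices H : ∀ x ∈ e.X, x * e.z * x⁻¹ = e.τ →
      ∃ j, orderOf j = 2 ∧ j ∈ e.M ∧ j ∉ e.X ∧ j * x * j⁻¹ = x⁻¹ by
    rcases e.conj_z hx with h | h | h
    · exact absurd (commute_of_conj_eq h) hz
    · exact H x hx h
    · obtain ⟨j, h1, h2, h3, h4⟩ := H x⁻¹ (inv_mem hx) (by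
        have h' : x⁻¹ * (x * e.τ * x⁻¹) * x⁻¹⁻¹ = e.τ := by group
        rwa [e.conj_τ_of_zτ hx h] at h')
      refine ⟨j, h1, h2, h3, inv_injective ?_⟩
      rw [← h4]; group
  intro x hx h
  have hi1 := e.i_inv
  have hii : e.i * e.i = 1 := involution_sq e.hi
  have iz : e.i * e.z * e.i = e.z := by
    rw [← e.comm_z_i.eq, mul_assoc, hii, mul_one]
  have iτ : e.i * e.τ * e.i = e.z * e.τ := by nth_rw 2 [← hi1]; exact e.i_conj_τ
  have izτ : e.i * (e.z * e.τ) * e.i = e.τ := by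
    rw [← iτ, show e.i * (e.i * e.τ * e.i) * e.i = e.i * e.i * e.τ * (e.i * e.i) by group, hii,
      one_mul, mul_one]
  obtain ⟨y, hy⟩ : ∃ y : G, y = e.i * e.g * e.i * e.g⁻¹ := ⟨_, rfl⟩
  have hyX : y ∈ e.X := by
    have := mul_mem (e.M_normalizes_X e.i_mem_M e.g_mem_X) (inv_mem e.g_mem_X)
    rwa [hi1, ← hy] at this
  have hyinv : e.i * y * e.i = y⁻¹ := by
    rw [hy, show e.i * (e.i * e.g * e.i * e.g⁻¹) * e.i = e.i * e.i * (e.g * e.i * e.g⁻¹ * e.i) by group,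
      hii, one_mul, mul_inv_rev, mul_inv_rev, mul_inv_rev, inv_inv, hi1]
    group
  have hgz : e.g⁻¹ * e.z * e.g = e.z * e.τ := by
    nth_rw 1 [← e.g_zτ]; group
  have hgzτ : e.g⁻¹ * (e.z * e.τ) * e.g = e.τ := by nth_rw 1 [← e.g_τ]; group
  have hgτ : e.g⁻¹ * e.τ * e.g = e.z := by nth_rw 1 [← e.g_z]; group
  have hyc : ∀ w : G, y * w * y⁻¹ = e.i * (e.g * (e.i * (e.g⁻¹ * w * e.g) * e.i) * e.g⁻¹) * e.i := by
    intro w
    rw [hy]
    simp only [mul_inv_rev, inv_inv, hi1]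
    group
  have yz : y * e.z * y⁻¹ = e.τ := by rw [hyc, hgz, izτ, e.g_τ, izτ]
  have yτ : y * e.τ * y⁻¹ = e.z * e.τ := by rw [hyc, hgτ, iz, e.g_z, iτ]
  have yzτ : y * (e.z * e.τ) * y⁻¹ = e.z := by rw [hyc, hgzτ, iτ, e.g_zτ, iz]
  have y1 : y⁻¹ * e.z * y = e.z * e.τ := by nth_rw 1 [← yzτ]; group
  have y2 : y⁻¹ * e.τ * y = e.z := by nth_rw 1 [← yz]; group
  have y3 : y⁻¹ * (e.z * e.τ) * y = e.τ := by nth_rw 1 [← yτ]; group
  have hc : Commute (y⁻¹ * x) e.z := by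
    refine commute_of_conj_eq ?_
    rw [show y⁻¹ * x * e.z * (y⁻¹ * x)⁻¹ = y⁻¹ * (x * e.z * x⁻¹) * y by group, h, y2]
  obtain ⟨d, hd, t, ht, hdt⟩ := e.exists_eq_mul (mul_mem (inv_mem hyX) hx) hc
  have zz := involution_sq e.hz
  have ττ := involution_sq e.hτ
  obtain ⟨v, hv, hvt⟩ : ∃ v ∈ e.T, y⁻¹ * v * y * v = t := by
    rcases e.mem_T.1 ht with rfl | rfl | rfl | rfl
    · exact ⟨1, one_mem _, by group⟩
    · refine ⟨e.z * e.τ, mul_mem e.z_mem_T e.τ_mem_T, ?_⟩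
      rw [y3, e.comm_z_τ.eq, ← mul_assoc, ττ, one_mul]
    · refine ⟨e.z, e.z_mem_T, ?_⟩
      rw [y1, e.comm_z_τ.eq, mul_assoc, zz, mul_one]
    · exact ⟨e.τ, e.τ_mem_T, by rw [y2]⟩
  have hvv : v * v = 1 := by
    rcases e.mem_T.1 hv with rfl | rfl | rfl | rfl
    exacts [one_mul 1, zz, ττ, involution_sq e.rot.prod_order]
  have hvinv : v⁻¹ = v := inv_eq_of_mul_eq_one_right hvv
  have hvX : v ∈ e.X := four_le e.z_mem_X e.τ_mem_X hv
  have hyd : Commute d y := e.mem_X_iff.1 hyX d hd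
  have hvd : Commute d v := e.mem_X_iff.1 hvX d hd
  have hx' : x = v * (y * d) * v := by
    have h1 : x = y * (d * t) := by rw [← hdt, mul_inv_cancel_left]
    rw [h1, ← hvt, ← mul_assoc, ← hyd.eq,
      show d * y * (y⁻¹ * v * y * v) = d * v * y * v by group, hvd.eq, mul_assoc v d y, hyd.eq]
  refine ⟨v * e.i * v, ?_, mul_mem (mul_mem (e.X_le_M hvX) e.i_mem_M) (e.X_le_M hvX), fun hj => ?_, ?_⟩
  · have := orderOf_conj v e.i
    rw [hvinv] at this
    rw [this]; exact e.hi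
  · refine e.i_not_mem_X ?_
    have := mul_mem (mul_mem hvX hj) hvX
    rwa [show v * (v * e.i * v) * v = v * v * e.i * (v * v) by group, hvv, one_mul, mul_one] at this
  · have hid : e.i * d * e.i = d⁻¹ := by
      have := e.inv d hd
      rw [← i, hi1] at this
      exact this
    rw [hx', show (v * e.i * v)⁻¹ = v * e.i * v by rw [mul_inv_rev, mul_inv_rev, hvinv, hi1, ← mul_assoc],
      show v * e.i * v * (v * (y * d) * v) * (v * e.i * v) =
        v * (e.i * (v * v) * y * d * (v * v) * e.i) * v by group, hvv, mul_one, mul_one,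
      show v * (e.i * y * d * e.i) * v = v * ((e.i * y * e.i) * ((e.i * e.i)⁻¹ * (e.i * d * e.i))) * v by
        group, hii, inv_one, one_mul, hyinv, hid, mul_inv_rev, mul_inv_rev, hvinv, mul_inv_rev,
      hyd.inv_inv.eq.symm, mul_assoc v]

end CfsgLib.GW.A7Data
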